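import Mathlib

/-!
# The arithmetic of the degrees
-/

set_option autoImplicit false

namespace Cfsg.Lib.Blocks.SmallOrder

lemma exists_add {p x r : ℕ} (hr : r < p) (h : (p : ℤ) ∣ (x : ℤ) - r) : ∃ q, x = q * p + r := by
  obtain ⟨k, hk⟩ := h
  have hp : (0 : ℤ) < p := by omega
  have h0 : 0 ≤ k := by
    by_contra hk0
    have h1 : (p : ℤ) * k ≤ p * (-1) := mul_le_mul_of_nonneg_left (by omega) hp.le
    omega
  lift k to ℕ using h0
  exact ⟨k, by zify; linear_combination hk⟩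

lemma exists_sub {p x r : ℕ} (hr : 0 < r) (h : (p : ℤ) ∣ (x : ℤ) + r) :
    ∃ q, 0 < q ∧ x + r = q * p := by
  obtain ⟨k, hk⟩ := Int.natCast_dvd_natCast.1 (show (p : ℤ) ∣ ((x + r : ℕ) : ℤ) by exact_mod_cast h)
  refine ⟨k, Nat.pos_of_ne_zero fun e => ?_, by rw [hk, mul_comm]⟩
  rw [e, mul_zero] at hk
  omega

variable {p e n N x : ℕ}

/-- An exceptional degree congruent to `e`. -/
lemma exc_plus (hp : p.Prime) (he2 : 2 ≤ e) (hep : e < p) (hN : N = 1 + n * p)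
    (hbd : N * e < p ^ 2) (hdvd : x ∣ N * e) (hcong : (p : ℤ) ∣ (x : ℤ) - e) :
    x = e ∨ x = N * e := by
  obtain ⟨s, hs⟩ := hdvd
  have hs' : (x : ℤ) * s = N * e := by exact_mod_cast hs.symm
  have hN' : (N : ℤ) = 1 + n * p := by exact_mod_cast hN
  have h1 : (p : ℤ) ∣ (e : ℤ) * ((s : ℤ) - 1) := by
    rw [show (e : ℤ) * ((s : ℤ) - 1) = (p : ℤ) * (n * e) - ((x : ℤ) - e) * s by
      linear_combination hs' + (e : ℤ) * hN']
    exact dvd_sub (dvd_mul_right _ _) (hcong.mul_right _)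
  have h2 : (p : ℤ) ∣ (s : ℤ) - 1 := ((Nat.prime_iff_prime_int.1 hp).dvd_mul.1 h1).resolve_left
    fun h => by
      have := Nat.le_of_dvd (by omega) (Int.natCast_dvd_natCast.1 h)
      omega
  obtain ⟨q, hq⟩ := exists_add hep hcong
  obtain ⟨h, hh⟩ := exists_add hp.one_lt (x := s) (r := 1) (by exact_mod_cast h2)
  rcases Nat.eq_zero_or_pos q with rfl | hq0
  · exact Or.inl (by simpa using hq)
  rcases Nat.eq_zero_or_pos h with rfl | hh0
  · refine Or.inr ?_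
    rw [hs, hh]
    ring
  exfalso
  have h3 : (p + e) * (p + 1) ≤ x * s := by
    refine Nat.mul_le_mul ?_ ?_
    · rw [hq]; exact Nat.add_le_add_right (Nat.le_mul_of_pos_left _ hq0) _
    · rw [hh]; exact Nat.add_le_add_right (Nat.le_mul_of_pos_left _ hh0) _
  nlinarith

/-- An exceptional degree congruent to `-e`. -/
lemma exc_minus (hp : p.Prime) (he2 : 2 ≤ e) (hep : 2 * e + 1 ≤ p) (hN : N = 1 + n * p)
    (hbd : N * e < p ^ 2) (hdvd : x ∣ N * e) (hcong : (p : ℤ) ∣ (x : ℤ) + e) :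
    x + e = p ∧ N * e + x = x * p := by
  obtain ⟨s, hs⟩ := hdvd
  have hs' : (x : ℤ) * s = N * e := by exact_mod_cast hs.symm
  have hN' : (N : ℤ) = 1 + n * p := by exact_mod_cast hN
  have h1 : (p : ℤ) ∣ (e : ℤ) * ((s : ℤ) + 1) := by
    rw [show (e : ℤ) * ((s : ℤ) + 1) = ((x : ℤ) + e) * s - (p : ℤ) * (n * e) by
      linear_combination -hs' - (e : ℤ) * hN']
    exact dvd_sub (hcong.mul_right _) (dvd_mul_right _ _)
  have h2 : (p : ℤ) ∣ (s : ℤ) + 1 := ((Nat.prime_iff_prime_int.1 hp).dvd_mul.1 h1).resolve_left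
    fun h => by
      have := Nat.le_of_dvd (by omega) (Int.natCast_dvd_natCast.1 h)
      omega
  obtain ⟨q, hq0, hq⟩ := exists_sub (by omega) hcong
  obtain ⟨h, hh0, hh⟩ := exists_sub (x := s) (r := 1) one_pos (by exact_mod_cast h2)
  have hx1 : p ≤ x + e := hq ▸ Nat.le_mul_of_pos_left _ hq0
  have hs1 : p ≤ s + 1 := hh ▸ Nat.le_mul_of_pos_left _ hh0
  have hq1 : q = 1 := by
    by_contra hne
    have : 2 * p ≤ x + e := hq ▸ Nat.mul_le_mul_right _ (by omega)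
    nlinarith
  have hh1 : h = 1 := by
    by_contra hne
    have : 2 * p ≤ s + 1 := hh ▸ Nat.mul_le_mul_right _ (by omega)
    nlinarith
  rw [hq1, one_mul] at hq
  rw [hh1, one_mul] at hh
  exact ⟨hq, by rw [hs, ← hh, mul_add, mul_one]⟩

/-- An ordinary degree congruent to `1`. -/
lemma ord_plus (hp : p.Prime) (he : 0 < e) (hep : e < p) (hN : N = 1 + n * p)
    (hbd : N * e < p ^ 2) (hdvd : x ∣ N * e) (hcong : (p : ℤ) ∣ (x : ℤ) - 1) :
    x = 1 ∨ x = N := by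
  obtain ⟨s, hs⟩ := hdvd
  have hs' : (x : ℤ) * s = N * e := by exact_mod_cast hs.symm
  have hN' : (N : ℤ) = 1 + n * p := by exact_mod_cast hN
  have h2 : (p : ℤ) ∣ (s : ℤ) - e := by
    rw [show (s : ℤ) - e = (p : ℤ) * (n * e) - ((x : ℤ) - 1) * s by
      linear_combination hs' + (e : ℤ) * hN']
    exact dvd_sub (dvd_mul_right _ _) (hcong.mul_right _)
  obtain ⟨q, hq⟩ := exists_add hp.one_lt (x := x) (r := 1) (by exact_mod_cast hcong)
  obtain ⟨h, hh⟩ := exists_add hep h2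
  rcases Nat.eq_zero_or_pos q with rfl | hq0
  · exact Or.inl (by simpa using hq)
  rcases Nat.eq_zero_or_pos h with rfl | hh0
  · refine Or.inr (Nat.eq_of_mul_eq_mul_right he ?_)
    rw [hs, hh]
    ring
  exfalso
  have h3 : (p + 1) * (p + e) ≤ x * s := by
    refine Nat.mul_le_mul ?_ ?_
    · rw [hq]; exact Nat.add_le_add_right (Nat.le_mul_of_pos_left _ hq0) _
    · rw [hh]; exact Nat.add_le_add_right (Nat.le_mul_of_pos_left _ hh0) _
  nlinarith

/-- An ordinary degree congruent to `-1`. -/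
lemma ord_minus (hp : p.Prime) (he2 : 2 ≤ e) (hep : 2 * e + 1 ≤ p) (hN : N = 1 + n * p)
    (hbd : N * e < p ^ 2) (hdvd : x ∣ N * e) (hcong : (p : ℤ) ∣ (x : ℤ) + 1) : x + 1 = p := by
  obtain ⟨s, hs⟩ := hdvd
  have hs' : (x : ℤ) * s = N * e := by exact_mod_cast hs.symm
  have hN' : (N : ℤ) = 1 + n * p := by exact_mod_cast hN
  have h2 : (p : ℤ) ∣ (s : ℤ) + e := by
    rw [show (s : ℤ) + e = ((x : ℤ) + 1) * s - (p : ℤ) * (n * e) by
      linear_combination -hs' - (e : ℤ) * hN']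
    exact dvd_sub (hcong.mul_right _) (dvd_mul_right _ _)
  obtain ⟨q, hq0, hq⟩ := exists_sub (x := x) (r := 1) one_pos (by exact_mod_cast hcong)
  obtain ⟨h, hh0, hh⟩ := exists_sub (by omega) h2
  have hs1 : p ≤ s + e := hh ▸ Nat.le_mul_of_pos_left _ hh0
  have hq1 : q = 1 := by
    by_contra hne
    have : 2 * p ≤ x + 1 := hq ▸ Nat.mul_le_mul_right _ (by omega)
    have h4 : p + 1 ≤ 2 * s := by omega
    nlinarith [Nat.mul_le_mul this h4, hp.two_le]
  rwa [hq1, one_mul] at hq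

/-- The largest exceptional degree is impossible. -/
lemma exc_not_max {t : ℕ} (hp5 : 5 ≤ p) (he2 : 2 ≤ e) (ht : t * e + 1 = p) (hN : p + 1 ≤ N) :
    p ^ 3 ≤ t * (N * e) ^ 2 := by
  have h1 : 2 * (t * e) * (p + 1) ^ 2 ≤ e * (t * e) * N ^ 2 := by
    refine Nat.mul_le_mul (Nat.mul_le_mul_right _ he2) (Nat.pow_le_pow_left hN 2)
  have h2 : p ^ 3 ≤ 2 * (t * e) * (p + 1) ^ 2 := by
    obtain ⟨q, rfl⟩ : ∃ q, p = q + 5 := ⟨p - 5, by omega⟩
    have ht' : t * e = q + 4 := by omega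
    rw [ht']
    nlinarith
  calc p ^ 3 ≤ _ := h2
    _ ≤ _ := h1
    _ = t * (N * e) ^ 2 := by ring

/-- The sum of the squares of the remaining degrees. -/
lemma rest_sq {p e t b c N G : ℤ} (hp : p = t * e + 1) (hN : N = (t - 1) * p + 1)
    (hbt : b * t = e - 2) (hc : 1 + b + c = e) (hG : G = N * p * e) :
    G - (1 + b * N ^ 2 + c * (p - 1) ^ 2 + t * (p - e) ^ 2) = (t - 1) * p ^ 2 := by
  have hcv : c = e - 1 - b := by omega
  subst hG hcv hN
  linear_combination (-((t - 2) * p + 2) * p) * hbt +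
    (-(2 * p - e)) * hp

end Cfsg.Lib.Blocks.SmallOrder
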