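import Mathlib
import Cfsg.Agent.Chars.Indicator
import Cfsg.Agent.Chars.Count
import Cfsg.Agent.Chars.Construct

/-!
# Elementary facts on perfect groups and on solutions of `g² = 1`
-/

set_option autoImplicit false
set_option linter.unusedSectionVars false

namespace Cfsg.Lib.Blocks.SmallOrder

open Cfsg.Lib.Chars
open scoped ComplexConjugate _root_.Classical commutatorElement

universe u v

variable {G : Type u} [Group G] [Fintype G] {p : ℕ} [Fact p.Prime]

/-- A homomorphism from a perfect group into a commutative monoid image is trivial. -/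
theorem map_eq_one_of_perfect (hperf : commutator G = ⊤) {A : Type v} [Group A] (f : G →* A)
    (hc : ∀ a b : G, f a * f b = f b * f a) (g : G) : f g = 1 := by
  have h : commutator G ≤ f.ker := by
    rw [commutator_def, Subgroup.commutator_le]
    intro a _ b _
    rw [MonoidHom.mem_ker, map_commutatorElement, commutatorElement_eq_one_iff_commute]
    exact hc a b
  exact h (hperf ▸ Subgroup.mem_top g)

/-- A normal cyclic subgroup of a perfect group is central. -/
theorem commute_of_perfect_cyclic (hperf : commutator G = ⊤) (A : Subgroup G) [A.Normal]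
    [IsCyclic A] (g : G) {x : G} (hx : x ∈ A) : g * x * g⁻¹ = x := by
  have h := map_eq_one_of_perfect hperf (MulAut.conjNormal : G →* MulAut A) (fun a b => by
    obtain ⟨i, hi⟩ := MonoidHom.map_cyclic (MulAut.conjNormal a : MulAut A).toMonoidHom
    obtain ⟨j, hj⟩ := MonoidHom.map_cyclic (MulAut.conjNormal b : MulAut A).toMonoidHom
    refine MulEquiv.ext fun z => ?_
    simp only [MulEquiv.coe_toMonoidHom] at hi hj
    rw [MulAut.mul_apply, MulAut.mul_apply, hi, hj, hj, hi, ← zpow_mul, ← zpow_mul, mul_comm]) g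
  have h1 := congrArg Subtype.val (DFunLike.congr_fun h (⟨x, hx⟩ : A))
  rw [MulAut.conjNormal_apply] at h1
  exact h1

/-- Burnside's transfer argument. -/
theorem not_normalizer_le_centralizer (hperf : commutator G = ⊤) (P : Sylow p G)
    (hP : (P : Subgroup G) ≠ ⊥) :
    ¬ Subgroup.normalizer ((P : Subgroup G) : Set G) ≤
      Subgroup.centralizer ((P : Subgroup G) : Set G) := by
  intro h
  have hk : (MonoidHom.transferSylow P h).ker = ⊤ := by
    refine eq_top_iff.2 fun g _ => map_eq_one_of_perfect hperf _ (fun a b => ?_) g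
    refine Subtype.ext ?_
    exact Subgroup.mem_centralizer_iff.1 (h (Subgroup.le_normalizer ((MonoidHom.transferSylow P h b).2)))
      _ (MonoidHom.transferSylow P h a).2
  have hc := MonoidHom.ker_transferSylow_isComplement' P h
  rw [hk] at hc
  exact hP (Subgroup.isComplement'_top_left.1 hc)

/-- A linear character of a perfect group is trivial. -/
theorem eq_one_of_deg_one (hperf : commutator G = ⊤) {χ : IrrCharacter G}
    (h : deg (χ : G → ℂ) = 1) : χ = ⟨fun _ => 1, isIrrCharacter_one⟩ := by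
  have h1 : (χ : G → ℂ) 1 = 1 := by rw [irr_apply_one_eq_deg, h, Nat.cast_one]
  obtain ⟨f, hf⟩ := exists_hom_of_deg_one (isCharacter_of_irr χ.2) h1
  refine Subtype.ext (funext fun g => ?_)
  rw [hf]
  show ((f g : ℂˣ) : ℂ) = 1
  rw [map_eq_one_of_perfect hperf f (fun a b => mul_comm _ _) g, Units.val_one]

/-- The number of solutions of `g² = 1` is at most the sum of the degrees. -/
theorem card_sq_eq_one_le :
    Nat.card {g : G // g * g = 1} ≤ ∑ χ : IrrCharacter G, deg (χ : G → ℂ) := by
  have hG : (Nat.card G : ℂ) ≠ 0 := Nat.cast_ne_zero.2 Nat.card_pos.ne'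
  have hid : (Nat.card {g : G // g * g = 1} : ℂ) = ∑ χ : IrrCharacter G,
      (deg (χ : G → ℂ) : ℂ) * ((Nat.card G : ℂ)⁻¹ * ∑ s : G, (χ : G → ℂ) (s * s)) := by
    simp only [← irr_apply_one_eq_deg, Finset.mul_sum]
    rw [Finset.sum_comm, Finset.sum_congr rfl fun s _ => show
      ∑ χ : IrrCharacter G, (χ : G → ℂ) 1 * ((Nat.card G : ℂ)⁻¹ * (χ : G → ℂ) (s * s)) =
        if s * s = 1 then 1 else 0 by
      simp only [mul_left_comm _ (Nat.card G : ℂ)⁻¹, ← Finset.mul_sum, sum_deg_mul, mul_ite,
        mul_zero, inv_mul_cancel₀ hG]]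
    rw [Finset.sum_boole, Nat.card_eq_fintype_card, Fintype.card_subtype]
  have h1 : ((Nat.card {g : G // g * g = 1} : ℕ) : ℝ) ≤
      ∑ χ : IrrCharacter G, (deg (χ : G → ℂ) : ℝ) := by
    rw [← Complex.norm_natCast, hid]
    refine (norm_sum_le _ _).trans (Finset.sum_le_sum fun χ _ => ?_)
    rw [norm_mul, Complex.norm_natCast]
    refine mul_le_of_le_one_right (Nat.cast_nonneg _) ?_
    rcases indicator_irr χ.2 with ⟨-, h⟩ | ⟨-, h | ⟨h, -⟩⟩ <;> rw [h] <;> simp
  exact_mod_cast h1

/-- The multiplication by a generator of the units is an odd permutation. -/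
theorem sign_mulLeft₀ {a : (ZMod p)ˣ} (hgen : ∀ u, u ∈ Subgroup.zpowers a) (hp : 3 ≤ p) :
    Equiv.Perm.sign (Equiv.mulLeft₀ (a : ZMod p) a.ne_zero) = -1 := by
  set σ : Equiv.Perm (ZMod p) := Equiv.mulLeft₀ (a : ZMod p) a.ne_zero with hσ
  have hap : ∀ x, σ x = (a : ZMod p) * x := fun x => rfl
  have hk : ∀ (k : ℕ) x, (σ ^ k) x = (a : ZMod p) ^ k * x := by
    intro k
    induction k with
    | zero => simp
    | succ k ih => intro x; rw [pow_succ', Equiv.Perm.mul_apply, ih, hap, pow_succ', mul_assoc]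
  have hpr := (Fact.out : p.Prime)
  have ha1 : a ≠ 1 := by
    intro e
    have h : ∀ u : (ZMod p)ˣ, u = 1 := fun u => by
      have := hgen u
      rwa [e, Subgroup.zpowers_one_eq_bot, Subgroup.mem_bot] at this
    have : Fintype.card (ZMod p)ˣ ≤ 1 := Fintype.card_le_one_iff.2 fun x y => (h x).trans (h y).symm
    rw [ZMod.card_units] at this
    omega
  have hsupp : σ.support = Finset.univ.erase 0 := by
    ext x
    rw [Equiv.Perm.mem_support, hap, Finset.mem_erase]
    refine ⟨fun h => ⟨fun e => h (by rw [e, mul_zero]), Finset.mem_univ _⟩, fun h e => ha1 ?_⟩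
    exact Units.ext (mul_right_cancel₀ h.1 (e.trans (one_mul x).symm))
  have hcyc : σ.IsCycle := by
    refine ⟨1, fun e => ha1 (Units.ext (by rwa [hap, mul_one] at e)), fun x hx => ?_⟩
    have hx0 : x ≠ 0 := fun e => hx (by rw [hap, e, mul_zero])
    obtain ⟨k, hk'⟩ := (isOfFinOrder_of_finite a).mem_powers_iff_mem_zpowers.2 (hgen (Units.mk0 x hx0))
    refine ⟨k, ?_⟩
    rw [zpow_natCast, hk, mul_one]
    exact congrArg Units.val hk'
  rw [hcyc.sign, hsupp, Finset.card_erase_of_mem (Finset.mem_univ _), Finset.card_univ, ZMod.card,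
    (hpr.even_sub_one (by omega)).neg_one_pow]

end Cfsg.Lib.Blocks.SmallOrder
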