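import Mathlib
import Cfsg.Agent.Blocks.SmallOrder.Basic
import Cfsg.Agent.Blocks.HalfDegree.Main

/-!
# Perfect groups of order less than `p³`: the normalizer
-/

set_option autoImplicit false
set_option linter.unusedSectionVars false

namespace Cfsg.Lib.Blocks.SmallOrder

open Cfsg.Lib.Chars MulAction
open scoped ComplexConjugate _root_.Classical Pointwise

universe u

variable {G : Type u} [Group G] [Fintype G] {p : ℕ} [Fact p.Prime]

/-- A perfect group of order less than `p³` with a nonnormal Sylow subgroup `⟨y⟩`. -/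
structure Hyp (C : Cyc G p) : Prop where
  perfect : commutator G = ⊤
  small : Nat.card G < p ^ 3
  sylow : ∃ P : Sylow p G, Subgroup.zpowers C.y = (P : Subgroup G)
  nn : ¬ (Subgroup.zpowers C.y).Normal
  two : ∀ N : Subgroup G, N.Normal → Nat.card N ≠ 2

/-- The number of Sylow subgroups. -/
noncomputable def idx (C : Cyc G p) : ℕ :=
  (Subgroup.normalizer (Subgroup.zpowers C.y : Set G)).index

/-- The order of the action. -/
noncomputable def eC (C : Cyc G p) : ℕ := Nat.card C.act.range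

/-- A nonnormal Sylow subgroup has at least `p + 1` conjugates. -/
theorem sylow_count {Q : Type u} [Group Q] [Finite Q] (P : Sylow p Q)
    (hn : ¬ (P : Subgroup Q).Normal) :
    ∃ n, 0 < n ∧ (Subgroup.normalizer ((P : Subgroup Q) : Set Q)).index = 1 + n * p := by
  have hpr := (Fact.out : p.Prime)
  have h := card_sylow_modEq_one p Q
  rw [P.card_eq_index_normalizer] at h
  have hne : (Subgroup.normalizer ((P : Subgroup Q) : Set Q)).index ≠ 1 := fun e =>
    hn (Subgroup.normalizer_eq_top_iff.1 (Subgroup.index_eq_one.1 e))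
  have hpos : 1 ≤ (Subgroup.normalizer ((P : Subgroup Q) : Set Q)).index :=
    Nat.one_le_iff_ne_zero.2 Subgroup.index_ne_zero_of_finite
  obtain ⟨k, hk⟩ := (Nat.modEq_iff_dvd' hpos).1 h.symm
  change (Subgroup.normalizer ((P : Subgroup Q) : Set Q)).index - 1 = p * k at hk
  refine ⟨k, Nat.pos_of_ne_zero fun e => hne ?_, ?_⟩
  · rw [e, mul_zero] at hk
    omega
  · rw [mul_comm k]
    omega

/-- `p²` does not divide the order. -/
theorem sq_not_dvd {Q : Type u} [Group Q] [Finite Q] (P : Sylow p Q)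
    (hn : ¬ (P : Subgroup Q).Normal) (hbig : Nat.card Q < p ^ 3) : ¬ p ^ 2 ∣ Nat.card Q := by
  intro hd
  obtain ⟨n, hn0, hn⟩ := sylow_count P hn
  have h1 : p ^ 2 ∣ Nat.card (P : Subgroup Q) := P.pow_dvd_card_of_pow_dvd_card hd
  have h2 : p ^ 2 ≤ Nat.card (Subgroup.normalizer ((P : Subgroup Q) : Set Q)) :=
    Nat.le_of_dvd Nat.card_pos (h1.trans (Subgroup.card_dvd_of_le Subgroup.le_normalizer))
  have h3 := Subgroup.index_mul_card (Subgroup.normalizer ((P : Subgroup Q) : Set Q))
  rw [hn] at h3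
  have h4 : p ≤ n * p := Nat.le_mul_of_pos_left _ hn0
  have h5 : (p + 1) * p ^ 2 ≤ Nat.card Q := h3 ▸ Nat.mul_le_mul (by omega) h2
  rw [pow_succ p 2, mul_comm _ p] at hbig
  rw [add_mul, one_mul] at h5
  omega

variable {C : Cyc G p}

theorem card_H (C : Cyc G p) : Nat.card C.H = eC C * Nat.card C.V := by
  rw [Subgroup.card_eq_card_quotient_mul_card_subgroup C.V,
    Nat.card_congr (QuotientGroup.quotientKerEquivRange C.act).toEquiv, eC]

theorem card_eq (C : Cyc G p) : Nat.card G = idx C * p * (eC C * Nat.card C.V) := by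
  rw [← card_H, mul_assoc, ← HalfDegree.card_normalizer_eq, idx, Subgroup.index_mul_card]

theorem eC_dvd (C : Cyc G p) : eC C ∣ p - 1 := by
  have := Subgroup.card_subgroup_dvd_card C.act.range
  rwa [Nat.card_eq_fintype_card (α := (ZMod p)ˣ), ZMod.card_units] at this

namespace Hyp

variable (hC : Hyp C)
include hC

theorem exists_idx : ∃ n, 0 < n ∧ idx C = 1 + n * p := by
  obtain ⟨P, hP⟩ := hC.sylow
  obtain ⟨n, hn, h⟩ := sylow_count P (hP ▸ hC.nn)
  exact ⟨n, hn, by rw [idx, hP, h]⟩

theorem lt_sq : idx C * eC C * Nat.card C.V < p ^ 2 := by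
  have h := hC.small
  rw [card_eq C] at h
  refine Nat.lt_of_mul_lt_mul_left (a := p) (lt_of_eq_of_lt ?_ (h.trans_eq (pow_succ' p 2)))
  ring

theorem exists_act_ne_one : ∃ h : C.H, C.act h ≠ 1 := by
  by_contra hall
  push Not at hall
  obtain ⟨P, hP⟩ := hC.sylow
  refine not_normalizer_le_centralizer hC.perfect P ?_ fun g hg => ?_
  · rw [← hP]
    exact fun e => by
      have := C.order
      rw [Subgroup.zpowers_eq_bot.1 e, orderOf_one] at this
      exact (Fact.out : p.Prime).ne_one this.symm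
  · rw [← hP] at hg ⊢
    obtain ⟨h, hh⟩ := DegreeSubTwo.exists_act_of_norm C hg
    refine Subgroup.mem_centralizer_iff.2 fun z hz => ?_
    obtain ⟨i, rfl⟩ := C.mem_zpowers_iff.1 hz
    have h1 := hh i
    rw [hall, Units.val_one, one_mul, mul_inv_eq_iff_eq_mul] at h1
    exact h1.symm

theorem two_le_eC : 2 ≤ eC C := by
  obtain ⟨h, hh⟩ := hC.exists_act_ne_one
  by_contra hlt
  have h1 : 0 < eC C := Nat.card_pos
  have h2 : Nat.card C.act.range = 1 := by
    rw [← eC]
    omega
  exact hh (Subgroup.mem_bot.1 (Subgroup.card_eq_one.1 h2 ▸ ⟨h, rfl⟩))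

theorem three_le : 3 ≤ p := by
  have := hC.two_le_eC
  have := Nat.le_of_dvd (by have := (Fact.out : p.Prime).two_le; omega) (eC_dvd C)
  omega

/-- The action is not transitive. -/
theorem eC_ne : eC C ≠ p - 1 := by
  intro he
  have hpr := (Fact.out : p.Prime)
  have hp3 := hC.three_le
  have h := hC.lt_sq
  obtain ⟨n, hn0, hn⟩ := hC.exists_idx
  have hn1 : n = 1 := by
    by_contra hne
    have h1 : idx C * eC C ≤ idx C * eC C * Nat.card C.V :=
      Nat.le_mul_of_pos_right _ Nat.card_pos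
    have h2 : 2 * p ≤ n * p := Nat.mul_le_mul_right _ (by omega)
    have h3 : (1 + 2 * p) * (p - 1) ≤ idx C * eC C := by
      rw [he, hn]
      exact Nat.mul_le_mul_right _ (by omega)
    obtain ⟨q, rfl⟩ := Nat.exists_eq_add_of_le (show 1 ≤ p by omega)
    rw [Nat.add_sub_cancel_left] at h3
    nlinarith
  rw [hn1, one_mul, add_comm] at hn
  -- the Sylow subgroups
  obtain ⟨P, hP⟩ := hC.sylow
  have hPset : (P : Set G) = (Subgroup.zpowers C.y : Set G) := by
    rw [hP]
    rfl
  have hcard : Nat.card (Sylow p G) = p + 1 := by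
    rw [P.card_eq_index_normalizer, hPset]
    exact hn
  obtain ⟨Q₀, hQ₀⟩ : ∃ Q : Sylow p G, Q ≠ P := by
    by_contra hall
    push Not at hall
    have : Nat.card (Sylow p G) = 1 :=
      Nat.card_eq_one_iff_exists.2 ⟨P, hall⟩
    omega
  have hyP : ∀ i : ZMod p, C.yP i • P = P := fun i => by
    rw [Sylow.smul_eq_iff_mem_normalizer, hPset]
    exact C.yP_mem_norm i
  have hfix : ∀ i : ZMod p, C.yP i • Q₀ = Q₀ → i = 0 := by
    intro i hi
    by_contra h0
    rw [Sylow.smul_eq_iff_mem_normalizer] at hi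
    have hgen : Subgroup.zpowers (C.yP i) = Subgroup.zpowers C.y := by
      refine le_antisymm (Subgroup.zpowers_le.2 (C.mem_zpowers_iff.2 ⟨i, rfl⟩)) ?_
      refine Subgroup.zpowers_le.2 ?_
      have h1 : C.yP i ^ (i⁻¹).val = C.y := by
        rw [C.yP_pow, ZMod.natCast_zmod_val, inv_mul_cancel₀ h0, C.yP_one]
      exact h1 ▸ Subgroup.npow_mem_zpowers _ _
    have hp' : IsPGroup p (Subgroup.zpowers (C.yP i)) := by
      rw [hgen, hP]
      exact P.2
    have hle : Subgroup.zpowers C.y ≤ (Q₀ : Subgroup G) := by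
      rw [← hgen]
      have h2 := (hp'.inf_normalizer_sylow Q₀).le
      exact fun z hz => (h2 ⟨hz, (Subgroup.zpowers_le.2 hi) hz⟩).2
    exact hQ₀ (Sylow.ext (P.3 Q₀.2 (hP ▸ hle)))
  let Φ₀ : Option (ZMod p) → Sylow p G := fun o => o.elim P fun i => C.yP i • Q₀
  have hinj : Function.Injective Φ₀ := by
    rintro (_ | i) (_ | j) e
    · rfl
    · exfalso
      refine hQ₀ (MulAction.injective (C.yP j) ?_)
      show C.yP j • Q₀ = C.yP j • P
      rw [hyP]
      exact e.symm
    · exfalso
      refine hQ₀ (MulAction.injective (C.yP i) ?_)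
      show C.yP i • Q₀ = C.yP i • P
      rw [hyP]
      exact e
    · congr 1
      have e' : C.yP i • Q₀ = C.yP j • Q₀ := e
      refine sub_eq_zero.1 (hfix _ ?_)
      rw [sub_eq_add_neg, add_comm, C.yP_add, mul_smul, e', ← mul_smul, ← C.yP_add,
        neg_add_cancel, C.yP_zero, one_smul]
  let _ : Fintype (Sylow p G) := Fintype.ofFinite _
  have hbij : Function.Bijective Φ₀ := by
    refine (Fintype.bijective_iff_injective_and_card Φ₀).2 ⟨hinj, ?_⟩
    rw [Fintype.card_option, ZMod.card, ← Nat.card_eq_fintype_card, hcard]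
  set Φ := Equiv.ofBijective Φ₀ hbij
  -- a generator of the action
  obtain ⟨a, ha⟩ := IsCyclic.exists_generator (α := (ZMod p)ˣ)
  obtain ⟨h, hh⟩ : a ∈ C.act.range := by
    have htop : C.act.range = ⊤ := Subgroup.eq_top_of_card_eq _ (by
      rw [← eC, he, Nat.card_eq_fintype_card, ZMod.card_units])
    rw [htop]
    trivial
  have hhP : (h : G) • P = P := by
    rw [Sylow.smul_eq_iff_mem_normalizer, hPset]
    exact C.le_norm h.2
  obtain ⟨o, ho⟩ := hbij.2 ((h : G) • Q₀)
  rcases o with _ | c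
  · exact hQ₀ (MulAction.injective (h : G) (ho.symm.trans hhP.symm))
  set r : G := C.yP (-c) * (h : G) with hr
  have hrQ : r • Q₀ = Q₀ := by
    rw [hr, mul_smul, ← ho]
    show C.yP (-c) • C.yP c • Q₀ = Q₀
    rw [← mul_smul, ← C.yP_add, neg_add_cancel, C.yP_zero, one_smul]
  have hperm : MulAction.toPermHom G (Sylow p G) r =
      Φ.permCongr ((Equiv.mulLeft₀ (a : ZMod p) a.ne_zero).optionCongr) := by
    refine Equiv.ext fun Q => ?_
    obtain ⟨o, rfl⟩ := Φ.surjective Q
    rw [Equiv.permCongr_apply, Equiv.symm_apply_apply]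
    show r • Φ₀ o = Φ₀ _
    rcases o with _ | i
    · show r • P = P
      rw [hr, mul_smul, hhP, hyP]
    · show r • C.yP i • Q₀ = C.yP ((a : ZMod p) * i) • Q₀
      have e : r * C.yP i = C.yP ((a : ZMod p) * i) * r := by
        have e1 : (h : G) * C.yP i = C.yP ((a : ZMod p) * i) * (h : G) := by
          rw [← hh]
          exact mul_inv_eq_iff_eq_mul.1 (C.conj_yP h i)
        rw [hr, mul_assoc, e1, ← mul_assoc, ← mul_assoc, ← C.yP_add, ← C.yP_add, add_comm]
      rw [← mul_smul, e, mul_smul, hrQ]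
  have hsign := map_eq_one_of_perfect hC.perfect
    (Equiv.Perm.sign.comp (MulAction.toPermHom G (Sylow p G))) (fun a b => mul_comm _ _) r
  rw [MonoidHom.comp_apply, hperm, Equiv.Perm.sign_permCongr, Equiv.optionCongr_sign,
    sign_mulLeft₀ ha hp3] at hsign
  exact absurd hsign (by decide)

theorem two_mul_eC_le : 2 * eC C + 1 ≤ p := by
  have hp3 := hC.three_le
  obtain ⟨k, hk⟩ := eC_dvd C
  have h0 : 0 < eC C := Nat.card_pos
  have hne := hC.eC_ne
  have hk2 : 2 ≤ k := by
    rcases k with _ | _ | k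
    · rw [mul_zero] at hk
      omega
    · rw [zero_add, mul_one] at hk
      omega
    · omega
  have : eC C * 2 ≤ p - 1 := hk ▸ Nat.mul_le_mul_left _ hk2
  omega

theorem five_le : 5 ≤ p := by
  have := hC.two_mul_eC_le
  have := hC.two_le_eC
  omega

/-- A normal subgroup without `y` gives a quotient of the same kind. -/
theorem quot (K : Subgroup G) [K.Normal] (hK : C.y ∉ K) :
    orderOf (QuotientGroup.mk' K C.y) = p ∧ ¬ p ^ 2 ∣ Nat.card (G ⧸ K) ∧
      (∀ H : Subgroup (G ⧸ K), H.Normal → Nat.card H ≠ p) ∧ p * (p + 1) ≤ Nat.card (G ⧸ K) := by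
  have hpr := (Fact.out : p.Prime)
  set π := QuotientGroup.mk' K
  have hπ1 : π C.y ≠ 1 := fun e => hK ((QuotientGroup.eq_one_iff _).1 e)
  have hord : orderOf (π C.y) = p := orderOf_eq_prime (by
    rw [← map_pow, DegreeSubTwo.pow_p_y, map_one]) hπ1
  have hsq : ¬ p ^ 2 ∣ Nat.card (G ⧸ K) := fun h =>
    C.sq (h.trans (Subgroup.card_quotient_dvd_card K))
  let _ : Fintype (G ⧸ K) := Fintype.ofFinite _
  have hperfQ : commutator (G ⧸ K) = ⊤ := by
    have := congrArg (Subgroup.map π) hC.perfect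
    rw [Subgroup.map_top_of_surjective π (QuotientGroup.mk'_surjective K), commutator_def,
      Subgroup.map_commutator, Subgroup.map_top_of_surjective π (QuotientGroup.mk'_surjective K)]
      at this
    rwa [commutator_def]
  have hdiv : p ∣ Nat.card (G ⧸ K) := hord ▸ orderOf_dvd_natCard _
  have h1 : (Nat.card (G ⧸ K)).factorization p = 1 := by
    refine le_antisymm ?_ (hpr.factorization_pos_of_dvd Nat.card_pos.ne' hdiv)
    by_contra h
    exact hsq ((hpr.pow_dvd_iff_le_factorization Nat.card_pos.ne').2 (by omega))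
  set R : Sylow p (G ⧸ K) := Sylow.ofCard (Subgroup.zpowers (π C.y))
    (by rw [Nat.card_zpowers, hord, h1, pow_one]) with hR
  have hnot : ¬ (R : Subgroup (G ⧸ K)).Normal := by
    intro hn
    obtain ⟨h, hh⟩ := hC.exists_act_ne_one
    have : (Subgroup.zpowers (π C.y)).Normal := hn
    have h2 := commute_of_perfect_cyclic hperfQ (Subgroup.zpowers (π C.y)) (π (h : G))
      (Subgroup.mem_zpowers (π C.y))
    rw [← map_inv, ← map_mul, ← map_mul, C.conj_y, map_pow] at h2
    conv_rhs at h2 => rw [← pow_one (π C.y)]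
    rw [pow_eq_pow_iff_modEq, hord, ← ZMod.natCast_eq_natCast_iff, ZMod.natCast_zmod_val,
      Nat.cast_one] at h2
    exact hh (Units.ext h2)
  refine ⟨hord, hsq, fun H hH hHc => ?_, ?_⟩
  · have hHp : IsPGroup p H := IsPGroup.of_card (n := 1) (by rw [hHc, pow_one])
    obtain ⟨R', hR'⟩ := hHp.exists_le_sylow
    have e : H = (R' : Subgroup (G ⧸ K)) := Subgroup.eq_of_le_of_card_ge hR'
      (by rw [hHc, R'.card_eq_multiplicity, h1, pow_one])
    have hn' : (R' : Subgroup (G ⧸ K)).Normal := e ▸ hH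
    let _ := Sylow.unique_of_normal R' hn'
    exact hnot ((Subsingleton.elim R' R : R' = R) ▸ hn')
  · obtain ⟨n, hn0, hn⟩ := sylow_count R hnot
    have h3 := Subgroup.index_mul_card (Subgroup.normalizer ((R : Subgroup (G ⧸ K)) : Set (G ⧸ K)))
    rw [hn] at h3
    have h4 : p ≤ Nat.card (Subgroup.normalizer ((R : Subgroup (G ⧸ K)) : Set (G ⧸ K))) := by
      refine Nat.le_of_dvd Nat.card_pos ?_
      have := Subgroup.card_dvd_of_le (Subgroup.le_normalizer (H := (R : Subgroup (G ⧸ K))))
      rwa [R.card_eq_multiplicity, h1, pow_one] at this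
    rw [← h3, mul_comm p]
    have : p ≤ n * p := Nat.le_mul_of_pos_left _ hn0
    exact Nat.mul_le_mul (by omega) h4

end Hyp

end Cfsg.Lib.Blocks.SmallOrder
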