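import Mathlib
import Cfsg.Agent.Blocks.SmallOrder.Setup

/-!
# The characters lying over the trivial character of `V`
-/

set_option autoImplicit false
set_option linter.unusedSectionVars false

namespace Cfsg.Lib.Blocks.SmallOrder

open Cfsg.Lib.Chars
open scoped ComplexConjugate _root_.Classical

universe u

variable {G : Type u} [Group G] [Fintype G] {p : ℕ} [Fact p.Prime] {M : Ideal AlgInt}
  (C : Cyc G p)

theorem conjI_oneV (h : C.H) : C.conjI h C.oneV = C.oneV := by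
  refine Subtype.ext (funext fun v => ?_)
  show conjN C.V h (C.oneV : C.V → ℂ) v = _
  rw [conjN_eq_comp]
  rfl

theorem stab_oneV : C.stab (C.oneV : C.V → ℂ) = ⊤ :=
  eq_top_iff.2 fun h _ => C.mem_stab.2 (congrArg Subtype.val (conjI_oneV C h))

theorem E_oneV : C.E (C.oneV : C.V → ℂ) = C.act.range := by
  rw [Cyc.E, stab_oneV, ← MonoidHom.range_eq_map]

theorem ee_oneV : C.ee (C.oneV : C.V → ℂ) = eC C := by rw [Cyc.ee, E_oneV, eC]

theorem deg_oneV : deg (C.oneV : C.V → ℂ) = 1 := by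
  apply Nat.cast_injective (R := ℂ)
  rw [← irr_apply_one_eq_deg, Nat.cast_one]
  rfl

theorem orbDeg_oneV : C.orbDeg (C.oneV : C.V → ℂ) = 1 := by
  rw [Cyc.orbDeg, stab_oneV, Subgroup.index_top, one_mul, deg_oneV]

theorem index_mul_eC : (C.E (C.oneV : C.V → ℂ)).index * eC C = p - 1 := by
  rw [← ee_oneV, C.index_E_mul]

theorem eq_oneV_of_lies (hM : IsPModular p M) {χ : IrrCharacter G} {θ : IrrCharacter C.V}
    (hl : C.Lies χ C.oneV) (h : C.Lies χ θ) : θ = C.oneV := by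
  obtain ⟨k, hk⟩ := C.conjI_of_lies hM hl h
  rw [← hk, conjI_oneV]

theorem apply_el_of_lies (hM : IsPModular p M) {χ : IrrCharacter G} (hl : C.Lies χ C.oneV)
    {i : ZMod p} (hi : i ≠ 0) (v : C.V) :
    (χ : G → ℂ) (C.el i v) = C.mu (χ : G → ℂ) (C.oneV : C.V → ℂ) i := by
  rw [C.apply_el_eq_sum (isClassFunction_irr χ),
    Finset.sum_eq_single C.oneV (fun φ _ hφ => by
      rw [C.mu_eq_zero_of_not_lies (fun h => hφ (eq_oneV_of_lies C hM hl h)) hi, zero_mul])
      (by simp)]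
  exact mul_one _

theorem apply_yP_of_lies (hM : IsPModular p M) {χ : IrrCharacter G} (hl : C.Lies χ C.oneV)
    {i : ZMod p} (hi : i ≠ 0) :
    (χ : G → ℂ) (C.yP i) = C.mu (χ : G → ℂ) (C.oneV : C.V → ℂ) i := by
  rw [← C.el_one_right, apply_el_of_lies C hM hl hi]

/-- In small degree the value on `V` is the degree. -/
theorem apply_V_of_lies (hM : IsPModular p M) {χ : IrrCharacter G} (hl : C.Lies χ C.oneV)
    (hd : deg (χ : G → ℂ) < p) (v : C.V) :
    (χ : G → ℂ) ((v : C.H) : G) = (χ : G → ℂ) 1 := by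
  have h0 : ∀ φ : IrrCharacter C.V, φ ≠ C.oneV → ∀ k, C.aN χ φ k = 0 := by
    intro φ hφ k
    have hconst : ∀ j : ZMod p, C.aN χ φ j = C.aN χ φ 0 := by
      intro j
      rcases eq_or_ne j 0 with rfl | hj
      · rfl
      · have h1 : C.bI χ φ (Units.mk0 j hj : (ZMod p)ˣ) = 0 := by
          by_contra h2
          exact hφ (eq_oneV_of_lies C hM hl ⟨_, h2⟩)
        rw [C.bI_eq_aN, Units.val_mk0] at h1
        omega
    rw [hconst]
    by_contra hne
    have h2 : deg (φ : C.V → ℂ) * ∑ j, C.aN χ φ j ≤ deg (χ : G → ℂ) := by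
      rw [C.deg_eq_sum χ]
      exact Finset.single_le_sum (f := fun ψ : IrrCharacter C.V =>
        deg (ψ : C.V → ℂ) * ∑ j, C.aN χ ψ j) (fun _ _ => Nat.zero_le _) (Finset.mem_univ φ)
    rw [Finset.sum_congr rfl fun j _ => hconst j, Finset.sum_const, Finset.card_univ, ZMod.card,
      smul_eq_mul] at h2
    have h3 : 1 * (p * 1) ≤ deg (φ : C.V → ℂ) * (p * C.aN χ φ 0) :=
      Nat.mul_le_mul (deg_irr_pos φ) (Nat.mul_le_mul_left _ (Nat.pos_of_ne_zero hne))
    omega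
  have h : ∀ w : C.V, (χ : G → ℂ) ((w : C.H) : G) = ∑ k, (C.aN χ C.oneV k : ℂ) := by
    intro w
    rw [← C.el_zero, C.apply_el, Finset.sum_eq_single C.oneV (fun φ _ hφ => by simp [h0 φ hφ])
      (by simp)]
    refine Finset.sum_congr rfl fun k _ => ?_
    rw [mul_zero, AddChar.map_zero_eq_one, mul_one]
    exact mul_one _
  rw [h v, ← h 1]
  rfl

theorem card_class_y : Nat.card {x : G // IsConj C.y x} = idx C * eC C := by
  refine Nat.eq_of_mul_eq_mul_right (m := p * Nat.card C.V)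
    (Nat.mul_pos (Fact.out : p.Prime).pos Nat.card_pos) ?_
  rw [← C.card_Cs, card_isConj_mul, card_eq C, C.card_Cs]
  ring

theorem isIntegral_value (χ : IrrCharacter G) :
    IsIntegral ℤ (((idx C * eC C : ℕ) : ℂ) * (χ : G → ℂ) C.y / (deg (χ : G → ℂ) : ℂ)) := by
  rw [← card_class_y, ← irr_apply_one_eq_deg]
  exact isIntegral_centralChar_irr χ.2 C.y

variable {C}
variable {ν : (ZMod p)ˣ → IrrCharacter G} {δ : ℤ}

theorem apply_yP_ord (hM : IsPModular p M) (hD : C.OrbitData C.oneV ν δ) {χ : IrrCharacter G}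
    (hr : χ ∉ Set.range ν) (hl : C.Lies χ C.oneV) {i : ZMod p} (hi : i ≠ 0) :
    (χ : G → ℂ) (C.yP i) = (C.bI χ C.oneV 1 : ℂ) := by
  rw [apply_yP_of_lies C hM hl hi, hD.mu_ord hr hi]

theorem lies_exc (hD : C.OrbitData C.oneV ν δ) (u : (ZMod p)ˣ) : C.Lies (ν u) C.oneV :=
  (hD.lies_iff _).2 (Or.inl ⟨u, rfl⟩)

theorem apply_yP_exc (hM : IsPModular p M) (hD : C.OrbitData C.oneV ν δ) (u : (ZMod p)ˣ)
    {i : ZMod p} (hi : i ≠ 0) :
    (ν u : G → ℂ) (C.yP i) = (δ : ℂ) *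
      ∑ v ∈ Finset.univ.filter (fun v => ν v = ν u), psi p ((v : ZMod p) * i) := by
  rw [apply_yP_of_lies C hM (lies_exc hD u) hi, C.mu_eq_bI _ _ hi, Finset.mul_sum, Finset.sum_filter,
    ← Finset.sum_neg_distrib]
  refine Finset.sum_congr rfl fun v _ => ?_
  rw [hD.bI_exc]
  by_cases hv : ν v = ν u
  · rw [if_pos hv, if_pos ((hD.eq_iff _ _).1 hv.symm)]
    push_cast
    ring
  · rw [if_neg hv, if_neg fun h => hv ((hD.eq_iff _ _).2 h).symm]
    simp

/-- The exceptional values at `yⁱ` sum to `-δ`. -/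
theorem sum_exc (hM : IsPModular p M) (hD : C.OrbitData C.oneV ν δ) {i : ZMod p} (hi : i ≠ 0) :
    ∑ χ ∈ Finset.univ.image ν, (χ : G → ℂ) (C.yP i) = -(δ : ℂ) := by
  rw [← mul_neg_one, ← Cyc.sum_units_psi hi, Finset.mul_sum,
    ← Finset.sum_fiberwise_of_maps_to (g := ν) (t := Finset.univ.image ν)
      (fun v _ => Finset.mem_image.2 ⟨v, Finset.mem_univ _, rfl⟩)]
  refine Finset.sum_congr rfl fun χ hχ => ?_
  obtain ⟨u, -, rfl⟩ := Finset.mem_image.1 hχ
  rw [apply_yP_exc hM hD u hi, Finset.mul_sum]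

/-- The values of one exceptional character on `⟨y⟩` sum to `-δ e`. -/
theorem sum_units_exc (hM : IsPModular p M) (hD : C.OrbitData C.oneV ν δ) (u : (ZMod p)ˣ) :
    ∑ i : (ZMod p)ˣ, (ν u : G → ℂ) (C.yP (i : ZMod p)) = -((δ : ℂ) * (eC C : ℂ)) := by
  rw [Finset.sum_congr rfl fun (i : (ZMod p)ˣ) _ => apply_yP_exc hM hD u i.ne_zero, ← Finset.mul_sum,
    Finset.sum_comm, Finset.sum_congr rfl fun (v : (ZMod p)ˣ) _ => show
      ∑ i : (ZMod p)ˣ, psi p ((v : ZMod p) * (i : ZMod p)) = -1 by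
    exact (Finset.sum_congr rfl fun i _ => by rw [mul_comm]).trans (Cyc.sum_units_psi v.ne_zero)]
  rw [Finset.sum_const, nsmul_eq_mul, mul_neg_one, mul_neg,
    show Finset.univ.filter (fun v => ν v = ν u) =
      Finset.univ.filter (fun v : (ZMod p)ˣ => u⁻¹ * v ∈ C.E (C.oneV : C.V → ℂ)) from
      Finset.filter_congr fun v _ => eq_comm.trans (hD.eq_iff u v),
    Cyc.card_coset, ← ee_oneV C, Cyc.ee]

theorem deg_exc (hD : C.OrbitData C.oneV ν δ) (u : (ZMod p)ˣ) :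
    deg (ν u : G → ℂ) = deg (ν 1 : G → ℂ) := by
  apply Nat.cast_injective (R := ℂ)
  rw [← irr_apply_one_eq_deg, ← irr_apply_one_eq_deg,
    ← C.twist_regular u (ν 1) (g := 1) (by rw [orderOf_one]; exact (Fact.out : p.Prime).not_dvd_one),
    hD.twist_exc, mul_one]

theorem apply_exc_regular (hD : C.OrbitData C.oneV ν δ) (u : (ZMod p)ˣ) {g : G}
    (hg : ¬ p ∣ orderOf g) : (ν u : G → ℂ) g = (ν 1 : G → ℂ) g := by
  rw [← C.twist_regular u (ν 1) hg, hD.twist_exc, mul_one]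

theorem card_image (hD : C.OrbitData C.oneV ν δ) :
    (Finset.univ.image ν).card = (C.E (C.oneV : C.V → ℂ)).index := by
  rw [← hD.card_range, Nat.card_coe_set_eq, ← Set.ncard_coe_finset, Finset.coe_image,
    Finset.coe_univ, Set.image_univ]

theorem congr_exc (hM : IsPModular p M) (hD : C.OrbitData C.oneV ν δ) :
    (p : ℤ) ∣ (deg (ν 1 : G → ℂ) : ℤ) - δ * eC C := by
  have h := C.small_deg_sub hM (lies_exc hD 1) (δ * C.ee (C.oneV : C.V → ℂ))
    fun i hi => hD.small_mu_exc hM 1 hi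
  rw [irr_apply_one_eq_deg, orbDeg_oneV, Nat.cast_one, mul_one, ← Int.cast_natCast, ← Int.cast_sub,
    small_intCast_iff hM, ee_oneV] at h
  exact h

theorem congr_ord (hM : IsPModular p M) (hD : C.OrbitData C.oneV ν δ) {χ : IrrCharacter G}
    (hr : χ ∉ Set.range ν) (hl : C.Lies χ C.oneV) :
    (p : ℤ) ∣ (deg (χ : G → ℂ) : ℤ) - C.bI χ C.oneV 1 := by
  have h := C.small_deg_sub hM hl (C.bI χ C.oneV 1) fun i hi => by
    rw [hD.mu_ord hr hi, sub_self]
    exact small_zero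
  rw [irr_apply_one_eq_deg, orbDeg_oneV, Nat.cast_one, mul_one, ← Int.cast_natCast, ← Int.cast_sub,
    small_intCast_iff hM] at h
  exact h

theorem dvd_ord (hM : IsPModular p M) (hD : C.OrbitData C.oneV ν δ) {χ : IrrCharacter G}
    (hr : χ ∉ Set.range ν) (hl : C.Lies χ C.oneV) : deg (χ : G → ℂ) ∣ idx C * eC C := by
  refine dvd_of_isIntegral_div (deg_irr_pos χ).ne' ?_
  have h := isIntegral_value C χ
  rw [← C.yP_one, apply_yP_ord hM hD hr hl one_ne_zero] at h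
  rcases hD.sign_diff (χ := χ) ⟨hl, hr⟩ with e | e <;> rw [e] at h
  · simpa using h
  · simpa [neg_div] using h.neg

theorem dvd_exc (hM : IsPModular p M) (hD : C.OrbitData C.oneV ν δ) :
    deg (ν 1 : G → ℂ) ∣ idx C * eC C := by
  refine dvd_of_isIntegral_div (deg_irr_pos _).ne' ?_
  have h : IsIntegral ℤ (∑ χ ∈ Finset.univ.image ν,
      ((idx C * eC C : ℕ) : ℂ) * (χ : G → ℂ) C.y / (deg (χ : G → ℂ) : ℂ)) :=
    IsIntegral.sum _ fun χ _ => isIntegral_value C χ
  rw [Finset.sum_congr rfl (g := fun χ : IrrCharacter G =>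
      ((idx C * eC C : ℕ) : ℂ) * (χ : G → ℂ) C.y / (deg (ν 1 : G → ℂ) : ℂ)) (fun χ hχ => by
    obtain ⟨u, -, rfl⟩ := Finset.mem_image.1 hχ
    rw [deg_exc hD]), ← Finset.sum_div, ← Finset.mul_sum, ← C.yP_one, sum_exc hM hD one_ne_zero] at h
  rcases hD.sign with e | e <;> rw [e] at h
  · simpa [neg_div] using h.neg
  · simpa using h

/-- The ordinary characters. -/
noncomputable def ordSet (C : Cyc G p) (ν : (ZMod p)ˣ → IrrCharacter G) : Finset (IrrCharacter G) :=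
  Finset.univ.filter fun χ => χ ∈ {χ | C.Lies χ C.oneV} \ Set.range ν

theorem mem_ordSet {χ : IrrCharacter G} :
    χ ∈ ordSet C ν ↔ C.Lies χ C.oneV ∧ χ ∉ Set.range ν := by
  simp [ordSet]

theorem card_ordSet (hD : C.OrbitData C.oneV ν δ) : (ordSet C ν).card = eC C := by
  rw [← ee_oneV, ← hD.card_diff, Nat.card_eq_fintype_card, ← Set.toFinset_card]
  congr 1
  ext χ
  simp [ordSet]

/-- The relation of the degrees. -/
theorem relation (hD : C.OrbitData C.oneV ν δ) :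
    ∑ χ ∈ ordSet C ν, C.bI χ C.oneV 1 * (deg (χ : G → ℂ) : ℤ) = δ * (deg (ν 1 : G → ℂ) : ℤ) := by
  apply Int.cast_injective (α := ℂ)
  have h := hD.regular_sum (x := 1) (by rw [orderOf_one]; exact (Fact.out : p.Prime).not_dvd_one) 1
  push_cast at h ⊢
  simp only [irr_apply_one_eq_deg] at h
  unfold ordSet
  linear_combination h

end Cfsg.Lib.Blocks.SmallOrder
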