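import Mathlib
import Cfsg.Agent.Blocks.SmallOrder.Values
import Cfsg.Agent.Blocks.SmallOrder.Arith
import Cfsg.Agent.Classical.Misc.SmallPSL

/-!
# The positive sign: the group is `PSL₂(p)`
-/

set_option autoImplicit false
set_option linter.unusedSectionVars false

namespace Cfsg.Lib.Blocks.SmallOrder

open Cfsg.Lib.Chars
open scoped ComplexConjugate _root_.Classical

universe u

variable {G : Type u} [Group G] [Fintype G] {p : ℕ} [Fact p.Prime] {M : Ideal AlgInt}
  {C : Cyc G p} {ν : (ZMod p)ˣ → IrrCharacter G} {δ : ℤ}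

theorem Hyp.lt_sq' (hC : Hyp C) : idx C * eC C < p ^ 2 :=
  lt_of_le_of_lt (Nat.le_mul_of_pos_right _ Nat.card_pos) hC.lt_sq

theorem sum_sq_exc (hD : C.OrbitData C.oneV ν δ) :
    ∑ χ ∈ Finset.univ.image ν, deg (χ : G → ℂ) ^ 2 =
      (C.E (C.oneV : C.V → ℂ)).index * deg (ν 1 : G → ℂ) ^ 2 := by
  rw [Finset.sum_congr rfl fun (χ : IrrCharacter G) hχ => show deg (χ : G → ℂ) ^ 2 = deg (ν 1 : G → ℂ) ^ 2 by
    obtain ⟨u, -, rfl⟩ := Finset.mem_image.1 hχ
    rw [deg_exc hD], Finset.sum_const, card_image hD, smul_eq_mul]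

/-- `y` is not in the kernel of an exceptional character. -/
theorem y_not_mem_ker (hM : IsPModular p M) (hC : Hyp C) (hD : C.OrbitData C.oneV ν δ)
    (hlt : deg (ν 1 : G → ℂ) * (p - 1) ≠ eC C) :
    C.y ∉ kerSubgroup (ν 1 : G → ℂ) (isCharacter_of_irr (ν 1).2) := by
  intro hy
  have h := sum_units_exc hM hD 1
  rw [Finset.sum_congr rfl fun (i : (ZMod p)ˣ) _ => show
      (ν 1 : G → ℂ) (C.yP (i : ZMod p)) = (deg (ν 1 : G → ℂ) : ℂ) by
    rw [← irr_apply_one_eq_deg]
    exact (mem_kerSubgroup _ _).1 (pow_mem hy _), Finset.sum_const, Finset.card_univ, ZMod.card_units,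
    nsmul_eq_mul] at h
  have h0 : 0 < eC C := lt_of_lt_of_le Nat.zero_lt_two hC.two_le_eC
  rcases hD.sign with e | e <;> rw [e] at h
  · have h' : (((p - 1) * deg (ν 1 : G → ℂ) + eC C : ℕ) : ℂ) = 0 := by
      push_cast at h ⊢
      linear_combination h
    have := Nat.cast_eq_zero.1 h'
    omega
  · refine hlt ?_
    have h' : (((p - 1) * deg (ν 1 : G → ℂ) : ℕ) : ℂ) = ((eC C : ℕ) : ℂ) := by
      push_cast at h ⊢
      linear_combination h
    rw [mul_comm]
    exact Nat.cast_injective h'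

theorem iso_of_plus (hM : IsPModular p M) (hC : Hyp C) (hD : C.OrbitData C.oneV ν 1) :
    Nonempty (G ≃* Matrix.ProjectiveSpecialLinearGroup (Fin 2) (ZMod p)) := by
  have hpr := (Fact.out : p.Prime)
  have he2 := hC.two_le_eC
  have hep := hC.two_mul_eC_le
  have hp5 := hC.five_le
  have hbd := hC.lt_sq'
  obtain ⟨n, hn0, hn⟩ := hC.exists_idx
  have hcong := congr_exc hM hD
  rw [one_mul] at hcong
  have ht := index_mul_eC C
  rcases exc_plus hpr he2 (by omega) hn hbd (dvd_exc hM hD) hcong with hx | hx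
  swap
  · exfalso
    have h1 : (C.E (C.oneV : C.V → ℂ)).index * deg (ν 1 : G → ℂ) ^ 2 ≤ Nat.card G := by
      rw [← sum_sq_exc hD, ← sum_deg_sq_nat]
      exact Finset.sum_le_sum_of_subset (Finset.subset_univ _)
    rw [hx] at h1
    have h2 := exc_not_max (p := p) (N := idx C) (t := (C.E (C.oneV : C.V → ℂ)).index) hp5 he2
      (by omega) (by
        rw [hn]
        have : p ≤ n * p := Nat.le_mul_of_pos_left _ hn0
        omega)
    have := hC.small
    omega
  -- the quotient by the kernel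
  have hχc := isCharacter_of_irr (ν 1).2
  set K := kerSubgroup (ν 1 : G → ℂ) hχc with hK
  have hKn : K.Normal := kerSubgroup_normal _
  have hyK : C.y ∉ K := y_not_mem_ker hM hC hD (by
    rw [hx]
    have : eC C * 4 ≤ eC C * (p - 1) := Nat.mul_le_mul_left _ (by omega)
    omega)
  obtain ⟨hord, hsq, hnn, -⟩ := hC.quot K hyK
  set π := QuotientGroup.mk' K
  have hπ : Function.Surjective π := QuotientGroup.mk'_surjective K
  obtain ⟨φ, hφc, hφ⟩ := exists_factor π hπ hχc fun x hx' => by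
    rw [QuotientGroup.ker_mk'] at hx'
    exact (mem_kerSubgroup _ x).1 hx'
  have hval : ∀ x, (ν 1 : G → ℂ) x = φ (π x) := fun x => congrFun hφ x
  have hφf : ∀ q, φ q = φ 1 → q = 1 := by
    intro q hq
    obtain ⟨x, rfl⟩ := hπ q
    rw [← map_one π, ← hval, ← hval] at hq
    exact (QuotientGroup.eq_one_iff x).2 ((mem_kerSubgroup _ x).2 hq)
  have hdφ : deg φ = eC C := by
    rw [← hx]
    unfold deg
    rw [hval 1, map_one]
  let _ : Fintype (G ⧸ K) := Fintype.ofFinite _
  have hdiv : p ∣ Nat.card (G ⧸ K) := hord ▸ orderOf_dvd_natCard _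
  have hlow := deg_bound_faithful hdiv hsq hnn hφc hφf
  rw [hdφ] at hlow
  obtain ⟨σ⟩ := HalfDegree.iso_psl_of_half_degree hdiv hsq hnn hφc hφf rfl
    (show 2 * deg φ + 1 = p by omega) (by omega)
  set f : G →* Matrix.ProjectiveSpecialLinearGroup (Fin 2) (ZMod p) :=
    σ.toMonoidHom.comp ((QuotientGroup.mk' (Subgroup.center (G ⧸ K))).comp π) with hfdef
  have hf : Function.Surjective f :=
    σ.surjective.comp ((QuotientGroup.mk'_surjective _).comp hπ)
  have hcard := Cfsg.Lib.Classical.SmallPSL.card_psl (F := ZMod p) (ZMod.card p)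
  have h2 : Nat.gcd 2 (p - 1) = 2 :=
    Nat.gcd_eq_left (even_iff_two_dvd.1 (hpr.even_sub_one (by omega)))
  rw [h2] at hcard
  have hG : Nat.card G =
      Nat.card (Matrix.ProjectiveSpecialLinearGroup (Fin 2) (ZMod p)) * Nat.card f.ker := by
    rw [Subgroup.card_eq_card_quotient_mul_card_subgroup f.ker,
      Nat.card_congr (QuotientGroup.quotientKerEquivOfSurjective f hf).toEquiv]
  have hk : Nat.card f.ker ≤ 2 := by
    by_contra hlt
    have h3 : p * (p ^ 2 - 1) * 3 ≤ 2 * Nat.card G := by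
      rw [hG, ← mul_assoc, hcard]
      exact Nat.mul_le_mul_left _ (by omega)
    have := hC.small
    obtain ⟨q, hq⟩ := Nat.exists_eq_add_of_le (show 1 ≤ p ^ 2 from Nat.one_le_pow _ _ (by omega))
    rw [hq, Nat.add_sub_cancel_left] at h3
    rw [pow_succ, hq] at this
    have h4 : 25 ≤ p ^ 2 := by nlinarith
    nlinarith
  have hker : f.ker = ⊥ := by
    refine Subgroup.card_eq_one.1 ?_
    have := hC.two f.ker inferInstance
    have : 0 < Nat.card f.ker := Nat.card_pos
    omega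
  exact ⟨MulEquiv.ofBijective f ⟨(MonoidHom.ker_eq_bot_iff f).1 hker, hf⟩⟩

end Cfsg.Lib.Blocks.SmallOrder
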