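import Mathlib
import Cfsg.Agent.Blocks.SmallOrder.Plus
import Cfsg.Agent.Blocks.DegreeSubTwo.Main

/-!
# The negative sign: the members of the principal block
-/

set_option autoImplicit false
set_option linter.unusedSectionVars false

namespace Cfsg.Lib.Blocks.SmallOrder

open Cfsg.Lib.Chars
open scoped ComplexConjugate _root_.Classical

universe u

variable {G : Type u} [Group G] [Fintype G] {p : ℕ} [Fact p.Prime] {M : Ideal AlgInt}
  {C : Cyc G p} {ν : (ZMod p)ˣ → IrrCharacter G}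

/-- The principal character. -/
noncomputable def oneG (G : Type u) [Group G] [Finite G] : IrrCharacter G :=
  ⟨fun _ => 1, isIrrCharacter_one⟩

theorem deg_oneG : deg (oneG G : G → ℂ) = 1 := by
  apply Nat.cast_injective (R := ℂ)
  rw [← irr_apply_one_eq_deg, Nat.cast_one]
  rfl

/-- The standing facts in the negative case. -/
structure Neg (M : Ideal AlgInt) (C : Cyc G p) (ν : (ZMod p)ˣ → IrrCharacter G) : Prop where
  modular : IsPModular p M
  hyp : Hyp C
  data : C.OrbitData C.oneV ν (-1)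

namespace Neg

variable (h : Neg M C ν)
include h

theorem degree : deg (ν 1 : G → ℂ) + eC C = p ∧
    idx C * eC C = deg (ν 1 : G → ℂ) * (p - 1) := by
  obtain ⟨n, hn0, hn⟩ := h.hyp.exists_idx
  have hcong := congr_exc h.modular h.data
  rw [neg_one_mul, sub_neg_eq_add] at hcong
  obtain ⟨h1, h2⟩ := exc_minus (Fact.out : p.Prime) h.hyp.two_le_eC h.hyp.two_mul_eC_le hn h.hyp.lt_sq'
    (dvd_exc h.modular h.data) hcong
  refine ⟨h1, ?_⟩
  rw [Nat.mul_sub, mul_one]
  omega

theorem idx_eq :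
    idx C = (C.E (C.oneV : C.V → ℂ)).index * deg (ν 1 : G → ℂ) := by
  refine Nat.eq_of_mul_eq_mul_right (lt_of_lt_of_le Nat.zero_lt_two h.hyp.two_le_eC) ?_
  rw [h.degree.2, ← index_mul_eC C]
  ring

theorem lt_idx : p < idx C := by
  obtain ⟨n, hn0, hn⟩ := h.hyp.exists_idx
  have : p ≤ n * p := Nat.le_mul_of_pos_left _ hn0
  omega

theorem y_not_ker : C.y ∉ kerSubgroup (ν 1 : G → ℂ) (isCharacter_of_irr (ν 1).2) := by
  refine y_not_mem_ker h.modular h.hyp h.data ?_
  intro e
  have := h.hyp.two_mul_eC_le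
  have := h.degree.1
  have := h.hyp.five_le
  have h2 : deg (ν 1 : G → ℂ) * 1 ≤ deg (ν 1 : G → ℂ) * (p - 1) := Nat.mul_le_mul_left _ (by omega)
  omega

/-- The centralizer of `y` is `⟨y⟩` and the exceptional characters are faithful. -/
theorem trivial_V :
    Nat.card C.V = 1 ∧ kerSubgroup (ν 1 : G → ℂ) (isCharacter_of_irr (ν 1).2) = ⊥ := by
  have hpr := (Fact.out : p.Prime)
  have hd := h.degree
  have hp5 := h.hyp.five_le
  have he := h.hyp.two_mul_eC_le
  have he2 := h.hyp.two_le_eC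
  set K := kerSubgroup (ν 1 : G → ℂ) (isCharacter_of_irr (ν 1).2) with hK
  have hKn : K.Normal := kerSubgroup_normal _
  have hVK : ∀ v : C.V, ((v : C.H) : G) ∈ K := fun v => (mem_kerSubgroup _ _).2
    (apply_V_of_lies C h.modular (lies_exc h.data 1) (by omega) v)
  have hcomm : ∀ k ∈ K, k ∈ C.Cs := by
    intro k hk
    by_contra hkc
    have hinj : Function.Injective fun i : ZMod p => C.yP i * k * C.yP (-i) := by
      intro i j e
      by_contra hij
      apply hkc
      have h0 : i - j ≠ 0 := sub_ne_zero.2 hij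
      have e1 : Commute (C.yP (i - j)) k := by
        have e2 : C.yP i * k * (C.yP i)⁻¹ = C.yP j * k * (C.yP j)⁻¹ := by
          simpa only [C.yP_neg] using e
        show _ = _
        rw [sub_eq_add_neg, add_comm, C.yP_add, C.yP_neg]
        calc (C.yP j)⁻¹ * C.yP i * k =
            (C.yP j)⁻¹ * (C.yP i * k * (C.yP i)⁻¹) * C.yP i := by group
          _ = k * ((C.yP j)⁻¹ * C.yP i) := by rw [e2]; group
      refine Subgroup.mem_centralizer_singleton_iff.2 ?_
      have e3 := e1.pow_left (i - j)⁻¹.val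
      rw [C.yP_pow, ZMod.natCast_zmod_val, inv_mul_cancel₀ h0, C.yP_one] at e3
      exact e3.symm.eq
    have hk1 : k ≠ 1 := fun e => hkc (e ▸ one_mem _)
    have hcard : p + 1 ≤ Nat.card K := by
      refine le_of_eq_of_le ?_ (Nat.card_le_card_of_injective (fun o : Option (ZMod p) =>
        (o.elim 1 fun i => ⟨C.yP i * k * C.yP (-i), by
          rw [C.yP_neg]; exact hKn.conj_mem k hk _⟩ : K)) ?_)
      · rw [Finite.card_option, Nat.card_zmod]
      · rintro (_ | i) (_ | j) e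
        · rfl
        · exfalso
          have e' : (1 : G) = C.yP j * k * C.yP (-j) := congrArg Subtype.val e
          rw [C.yP_neg, eq_mul_inv_iff_mul_eq, one_mul, eq_comm, mul_eq_left] at e'
          exact hk1 e'
        · exfalso
          have e' : C.yP i * k * C.yP (-i) = (1 : G) := congrArg Subtype.val e
          rw [C.yP_neg, mul_inv_eq_iff_eq_mul, one_mul, mul_eq_left] at e'
          exact hk1 e'
        · exact congrArg some (hinj (congrArg Subtype.val e))
    obtain ⟨-, -, -, hQ⟩ := h.hyp.quot K h.y_not_ker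
    have h1 := Subgroup.card_eq_card_quotient_mul_card_subgroup K
    have h2 : p * (p + 1) * (p + 1) ≤ Nat.card G := h1 ▸ Nat.mul_le_mul hQ hcard
    have := h.hyp.small
    nlinarith
  have hsurj : ∀ k ∈ K, ∃ v : C.V, ((v : C.H) : G) = k := by
    intro k hk
    obtain ⟨i, v, rfl⟩ := C.exists_el (hcomm k hk)
    refine ⟨v, ?_⟩
    suffices hi : i = 0 by rw [hi, C.el_zero]
    by_contra hi
    apply h.y_not_ker
    have h1 : C.yP i ∈ K := by
      rw [show C.yP i = C.el i v * ((v : C.H) : G)⁻¹ by rw [Cyc.el, mul_inv_cancel_right]]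
      exact mul_mem hk (inv_mem (hVK v))
    have h2 := pow_mem h1 (i⁻¹).val
    rwa [C.yP_pow, ZMod.natCast_zmod_val, inv_mul_cancel₀ hi, C.yP_one] at h2
  have hcardK : Nat.card K = Nat.card C.V := by
    refine (Nat.card_congr (Equiv.ofBijective (fun v : C.V => (⟨_, hVK v⟩ : K)) ⟨?_, ?_⟩)).symm
    · exact fun a b e => Subtype.ext (Subtype.ext (congrArg Subtype.val e :))
    · rintro ⟨k, hk⟩
      obtain ⟨v, hv⟩ := hsurj k hk
      exact ⟨v, Subtype.ext hv⟩
  have hv2 : Nat.card C.V ≤ 2 := by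
    by_contra hlt
    have h1 := h.hyp.lt_sq
    rw [hd.2] at h1
    have h2 : (p + 1) * (p - 1) * 3 ≤ 2 * deg (ν 1 : G → ℂ) * (p - 1) * Nat.card C.V :=
      Nat.mul_le_mul (Nat.mul_le_mul_right _ (by omega)) (by omega)
    obtain ⟨q, rfl⟩ := Nat.exists_eq_add_of_le (show 1 ≤ p by omega)
    rw [Nat.add_sub_cancel_left] at h1 h2
    nlinarith
  have hV1 : Nat.card C.V = 1 := by
    have := h.hyp.two K hKn
    have : 0 < Nat.card C.V := Nat.card_pos
    omega
  exact ⟨hV1, Subgroup.card_eq_one.1 (hcardK.trans hV1)⟩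

theorem V_eq (v : C.V) : v = 1 := by
  have := (Nat.card_eq_one_iff_unique.1 h.trivial_V.1).1
  exact Subsingleton.elim _ _

theorem card_H_eq : Nat.card C.H = eC C := by rw [card_H C, h.trivial_V.1, mul_one]

theorem card_G : Nat.card G = idx C * p * eC C := by rw [card_eq C, h.trivial_V.1, mul_one]

theorem eq_oneV (θ : IrrCharacter C.V) : θ = C.oneV := by
  have hcomm : ∀ a b : C.V, a * b = b * a := fun a b => by rw [h.V_eq a, h.V_eq b]
  refine Subtype.ext (funext fun v => ?_)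
  rw [h.V_eq v, irr_deg_one_of_comm hcomm θ.2]
  rfl

theorem lies_of_ne_zero (χ : IrrCharacter G) (hχ : (χ : G → ℂ) C.y ≠ 0) : C.Lies χ C.oneV := by
  obtain ⟨P, hP⟩ := h.hyp.sylow
  by_contra hl
  exact hχ (C.apply_singular_of_forall_not_lies (fun θ => h.eq_oneV θ ▸ hl) P hP
    (dvd_of_eq C.order.symm))

theorem oneG_not_range : oneG G ∉ Set.range ν := by
  rintro ⟨u, hu⟩
  have h1 := deg_exc h.data u
  rw [hu, deg_oneG] at h1
  have := h.degree.1
  have := h.hyp.two_mul_eC_le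
  have := h.hyp.five_le
  omega

theorem oneG_mem : oneG G ∈ ordSet C ν :=
  mem_ordSet.2 ⟨h.lies_of_ne_zero _ one_ne_zero, h.oneG_not_range⟩

theorem ord_cases {χ : IrrCharacter G} (hχ : χ ∈ ordSet C ν) :
    (C.bI χ C.oneV 1 = 1 ∧ (χ = oneG G ∨ deg (χ : G → ℂ) = idx C)) ∨
      (C.bI χ C.oneV 1 = -1 ∧ deg (χ : G → ℂ) + 1 = p) := by
  obtain ⟨hl, hr⟩ := mem_ordSet.1 hχ
  obtain ⟨n, hn0, hn⟩ := h.hyp.exists_idx
  have hcong := congr_ord h.modular h.data hr hl
  have hdvd := dvd_ord h.modular h.data hr hl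
  have hpr := (Fact.out : p.Prime)
  have he2 := h.hyp.two_le_eC
  have he := h.hyp.two_mul_eC_le
  rcases h.data.sign_diff (χ := χ) ⟨hl, hr⟩ with e | e <;> rw [e] at hcong
  · refine Or.inl ⟨e, ?_⟩
    rcases ord_plus hpr (by omega) (by omega) hn h.hyp.lt_sq' hdvd hcong with hd | hd
    · exact Or.inl (eq_one_of_deg_one h.hyp.perfect hd)
    · exact Or.inr hd
  · rw [sub_neg_eq_add] at hcong
    exact Or.inr ⟨e, ord_minus hpr he2 he hn h.hyp.lt_sq' hdvd hcong⟩

omit h in
/-- The characters of degree equal to the number of Sylow subgroups. -/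
noncomputable def bigSet (C : Cyc G p) (ν : (ZMod p)ˣ → IrrCharacter G) : Finset (IrrCharacter G) :=
  (ordSet C ν).filter fun χ => deg (χ : G → ℂ) = idx C

omit h in
/-- The characters of degree `p - 1`. -/
noncomputable def lowSet (C : Cyc G p) (ν : (ZMod p)ˣ → IrrCharacter G) : Finset (IrrCharacter G) :=
  (ordSet C ν).filter fun χ => deg (χ : G → ℂ) + 1 = p

theorem deg_low {χ : IrrCharacter G} (hχ : χ ∈ lowSet C ν) :
    deg (χ : G → ℂ) + 1 = p ∧ C.bI χ C.oneV 1 = -1 := by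
  obtain ⟨hm, hd⟩ := Finset.mem_filter.1 hχ
  refine ⟨hd, ?_⟩
  rcases h.ord_cases hm with ⟨-, e | e⟩ | ⟨e, -⟩
  · rw [e, deg_oneG] at hd
    have := h.hyp.five_le
    omega
  · rw [e] at hd
    have := h.lt_idx
    omega
  · exact e

theorem deg_big {χ : IrrCharacter G} (hχ : χ ∈ bigSet C ν) :
    deg (χ : G → ℂ) = idx C ∧ C.bI χ C.oneV 1 = 1 := by
  obtain ⟨hm, hd⟩ := Finset.mem_filter.1 hχ
  refine ⟨hd, ?_⟩
  rcases h.ord_cases hm with ⟨e, -⟩ | ⟨-, e⟩
  · exact e
  · rw [hd] at e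
    have := h.lt_idx
    omega

theorem sum_ordSet {R : Type*} [AddCommMonoid R] (f : IrrCharacter G → R) :
    ∑ χ ∈ ordSet C ν, f χ = f (oneG G) + ∑ χ ∈ bigSet C ν, f χ + ∑ χ ∈ lowSet C ν, f χ := by
  have hdisj : Disjoint (bigSet C ν) (lowSet C ν) := Finset.disjoint_left.2 fun χ h1 h2 => by
    have := (h.deg_big h1).2
    have := (h.deg_low h2).2
    omega
  have hone : oneG G ∉ bigSet C ν ∪ lowSet C ν := by
    rw [Finset.mem_union]
    rintro (h1 | h1) <;> have h2 := (Finset.mem_filter.1 h1).2 <;> rw [deg_oneG] at h2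
    · have := h.lt_idx
      have := h.hyp.five_le
      omega
    · have := h.hyp.five_le
      omega
  have heq : ordSet C ν = insert (oneG G) (bigSet C ν ∪ lowSet C ν) := by
    ext χ
    rw [Finset.mem_insert, Finset.mem_union, bigSet, lowSet, Finset.mem_filter, Finset.mem_filter]
    refine ⟨fun hχ => ?_, ?_⟩
    · rcases h.ord_cases hχ with ⟨-, e | e⟩ | ⟨-, e⟩
      · exact Or.inl e
      · exact Or.inr (Or.inl ⟨hχ, e⟩)
      · exact Or.inr (Or.inr ⟨hχ, e⟩)
    · rintro (rfl | ⟨hχ, -⟩ | ⟨hχ, -⟩)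
      · exact h.oneG_mem
      · exact hχ
      · exact hχ
  rw [heq, Finset.sum_insert hone, Finset.sum_union hdisj, add_assoc]

theorem card_sets : 1 + (bigSet C ν).card + (lowSet C ν).card = eC C := by
  rw [← card_ordSet h.data, Finset.card_eq_sum_ones (ordSet C ν), h.sum_ordSet,
    ← Finset.card_eq_sum_ones, ← Finset.card_eq_sum_ones]

theorem bI_oneG : C.bI (oneG G) C.oneV 1 = 1 := by
  rcases h.ord_cases h.oneG_mem with ⟨e, -⟩ | ⟨-, e⟩
  · exact e
  · rw [deg_oneG] at e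
    have := h.hyp.five_le
    omega

/-- The number of characters of largest degree. -/
theorem big_mul : ((bigSet C ν).card : ℤ) * (C.E (C.oneV : C.V → ℂ)).index = (eC C : ℤ) - 2 := by
  have hrel := relation h.data
  rw [h.sum_ordSet, h.bI_oneG, deg_oneG,
    Finset.sum_congr rfl fun (χ : IrrCharacter G) hχ => show
      C.bI χ C.oneV 1 * (deg (χ : G → ℂ) : ℤ) = (idx C : ℤ) by
      rw [(h.deg_big hχ).1, (h.deg_big hχ).2, one_mul],
    Finset.sum_congr rfl fun (χ : IrrCharacter G) hχ => show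
      C.bI χ C.oneV 1 * (deg (χ : G → ℂ) : ℤ) = 1 - (p : ℤ) by
      obtain ⟨h1, h2⟩ := h.deg_low hχ
      rw [h2]
      omega,
    Finset.sum_const, Finset.sum_const] at hrel
  simp only [nsmul_eq_mul, Nat.cast_one, mul_one] at hrel
  have h1 : ((deg (ν 1 : G → ℂ) : ℤ)) + eC C = p := by exact_mod_cast h.degree.1
  have h2 : (idx C : ℤ) = (C.E (C.oneV : C.V → ℂ)).index * deg (ν 1 : G → ℂ) := by
    exact_mod_cast h.idx_eq
  have h3 : (1 : ℤ) + (bigSet C ν).card + (lowSet C ν).card = eC C := by exact_mod_cast h.card_sets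
  have h4 : ((C.E (C.oneV : C.V → ℂ)).index : ℤ) * eC C = (p : ℤ) - 1 := by
    have := congrArg (Nat.cast (R := ℤ)) (index_mul_eC C)
    rw [Nat.cast_mul, Nat.cast_sub (Fact.out : p.Prime).one_le, Nat.cast_one] at this
    exact this
  refine mul_left_cancel₀ (show (p : ℤ) ≠ 0 by exact_mod_cast (Fact.out : p.Prime).ne_zero) ?_
  linear_combination hrel - ((bigSet C ν).card : ℤ) * (C.E (C.oneV : C.V → ℂ)).index * h1 -
    ((bigSet C ν).card : ℤ) * h2 - (1 - (p : ℤ)) * h3 + ((bigSet C ν).card : ℤ) * h4 - h1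

theorem self_centralizing {g : G} (hg : Commute g C.y) : g ∈ Subgroup.zpowers C.y := by
  obtain ⟨i, v, rfl⟩ := C.exists_el (Subgroup.mem_centralizer_singleton_iff.2 hg)
  rw [h.V_eq v, C.el_one_right]
  exact C.mem_zpowers_iff.2 ⟨i, rfl⟩

theorem iso_of_index_two (ht : (C.E (C.oneV : C.V → ℂ)).index = 2) :
    Nonempty (G ≃* Matrix.ProjectiveSpecialLinearGroup (Fin 2) (ZMod p)) := by
  have hd := h.degree.1
  have hi := h.idx_eq
  have hm := index_mul_eC C
  rw [ht] at hi hm
  have := (Fact.out : p.Prime).two_le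
  refine HalfDegree.recognize_psl C.y C.order C.sq (fun g hg => h.self_centralizing hg)
    h.hyp.two_le_eC (by omega) (by rw [HalfDegree.card_normalizer_eq, h.card_H_eq]) ?_ ⊤
    (Subgroup.mem_top _) (by rw [← commutator_def]; exact h.hyp.perfect)
  change idx C = p + 1
  omega

theorem iso_of_eC_two (ht : 3 ≤ (C.E (C.oneV : C.V → ℂ)).index) (he : eC C = 2) :
    ∃ (a : ℕ) (F : Type) (_ : Field F) (_ : Fintype F), Fintype.card F = 2 ^ a ∧ p = 2 ^ a + 1 ∧
      Nonempty (G ≃* Matrix.SpecialLinearGroup (Fin 2) F) := by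
  have hd := h.degree.1
  have hm := index_mul_eC C
  rw [he] at hd hm
  obtain ⟨P, hP⟩ := h.hyp.sylow
  have hPc : Nat.card P = p := by
    show Nat.card (P : Subgroup G) = p
    rw [← hP, Nat.card_zpowers, C.order]
  obtain ⟨a, F, _, _, hpa, hF, ⟨σ⟩⟩ := DegreeSubTwo.iso_sl_prod_center (p := p) (by omega) P hPc
    (hP ▸ h.hyp.nn) (ν 1) (fun g hg => Subgroup.mem_bot.1
      (h.trivial_V.2 ▸ (mem_kerSubgroup (isCharacter_of_irr (ν 1).2) g).2 hg)) hd
  have hZ : Subgroup.center G = ⊥ := by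
    refine (Subgroup.eq_bot_iff_forall _).2 fun z hz => ?_
    obtain ⟨i, rfl⟩ := C.mem_zpowers_iff.1
      (h.self_centralizing (show Commute z C.y from (Subgroup.mem_center_iff.1 hz C.y).symm))
    by_contra hne
    have hi : i ≠ 0 := fun e => hne (by rw [e, C.yP_zero])
    refine h.hyp.nn ⟨fun x hx g => ?_⟩
    have h1 := pow_mem hz (i⁻¹).val
    rw [C.yP_pow, ZMod.natCast_zmod_val, inv_mul_cancel₀ hi, C.yP_one] at h1
    rw [Subgroup.mem_center_iff.1 (Subgroup.zpowers_le.2 h1 hx) g, mul_inv_cancel_right]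
    exact hx
  have : Subsingleton (Subgroup.center G) := by
    rw [hZ]
    infer_instance
  let _ : Unique (Subgroup.center G) := uniqueOfSubsingleton 1
  exact ⟨a, F, _, _, hF, hpa, ⟨σ.trans MulEquiv.prodUnique⟩⟩

end Neg

end Cfsg.Lib.Blocks.SmallOrder
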