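import Mathlib
import Cfsg.Agent.Blocks.SmallOrder.Minus
import Cfsg.Agent.Blocks.DegreeSubTwo.Involution
import Cfsg.Agent.Chars.Sums

/-!
# The involution count
-/

set_option autoImplicit false
set_option linter.unusedSectionVars false

namespace Cfsg.Lib.Blocks.SmallOrder

open Cfsg.Lib.Chars
open scoped ComplexConjugate _root_.Classical

universe u

variable {G : Type u} [Group G] [Fintype G] {p : ℕ} [Fact p.Prime] {M : Ideal AlgInt}
  {C : Cyc G p} {ν : (ZMod p)ˣ → IrrCharacter G}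

/-- The inequality contradicting the count. -/
lemma count_false {p e t b c N x : ℤ} (hp : p = t * e + 1) (hx : x + e = p) (hN : N = t * x)
    (hbt : b * t = e - 2) (hc : 1 + b + c = e) (ht : 3 ≤ t) (he : 3 ≤ e)
    (h : p * x ≤ b * N + c * (p - 1) + t * x + (t - 1) * p) : False := by
  have hid : t * (p * x - (b * N + c * (p - 1) + t * x + (t - 1) * p)) =
      t * ((t - 2) * (e * ((t - 1) * (e - 2) + 1) - 2)) := by
    obtain rfl : c = e - 1 - b := by omega
    obtain rfl : x = p - e := by omega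
    subst hp hN
    linear_combination (-((t - 2) * (t * e + 1) + 2)) * hbt
  have h1 : 2 * 1 ≤ (t - 1) * (e - 2) := mul_le_mul (by omega) (by omega) (by omega) (by omega)
  have h2 : 3 * 3 ≤ e * ((t - 1) * (e - 2) + 1) := mul_le_mul he (by omega) (by omega) (by omega)
  have h3 : 1 * 1 ≤ (t - 2) * (e * ((t - 1) * (e - 2) + 1) - 2) :=
    mul_le_mul (by omega) (by omega) (by omega) (by omega)
  have h5 : t * 1 ≤ t * ((t - 2) * (e * ((t - 1) * (e - 2) + 1) - 2)) :=
    mul_le_mul_of_nonneg_left (by omega) (by omega)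
  have h4 : t * (p * x - (b * N + c * (p - 1) + t * x + (t - 1) * p)) ≤ 0 :=
    mul_nonpos_of_nonneg_of_nonpos (by omega) (by omega)
  omega

namespace Neg

variable (h : Neg M C ν)
include h

theorem disjoint_ord : Disjoint (ordSet C ν) (Finset.univ.image ν) :=
  Finset.disjoint_left.2 fun χ h1 h2 => by
    obtain ⟨u, -, rfl⟩ := Finset.mem_image.1 h2
    exact (mem_ordSet.1 h1).2 ⟨u, rfl⟩

/-- A sum vanishing outside the principal block. -/
theorem sum_block {R : Type*} [AddCommMonoid R] (f : IrrCharacter G → R)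
    (hf : ∀ χ, ¬ C.Lies χ C.oneV → f χ = 0) :
    ∑ χ, f χ = ∑ χ ∈ ordSet C ν, f χ + ∑ χ ∈ Finset.univ.image ν, f χ := by
  rw [← Finset.sum_union h.disjoint_ord]
  refine (Finset.sum_subset (Finset.subset_univ _) fun χ _ hχ => hf χ fun hl => hχ ?_).symm
  rw [Finset.mem_union]
  by_cases hr : χ ∈ Set.range ν
  · obtain ⟨u, rfl⟩ := hr
    exact Or.inr (Finset.mem_image_of_mem _ (Finset.mem_univ _))
  · exact Or.inl (mem_ordSet.2 ⟨hl, hr⟩)

theorem sum_deg_le :
    ((∑ χ : IrrCharacter G, deg (χ : G → ℂ) : ℕ) : ℤ) ≤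
      1 + (bigSet C ν).card * (idx C : ℤ) + (lowSet C ν).card * ((p : ℤ) - 1) +
        (C.E (C.oneV : C.V → ℂ)).index * (deg (ν 1 : G → ℂ) : ℤ) +
        (((C.E (C.oneV : C.V → ℂ)).index : ℤ) - 1) * p := by
  set t : ℤ := ((C.E (C.oneV : C.V → ℂ)).index : ℤ) with ht
  set U := ordSet C ν ∪ Finset.univ.image ν with hU
  obtain ⟨P, hP⟩ := h.hyp.sylow
  -- the members of the block
  have hF : ∀ F : ℕ → ℤ, ∑ χ ∈ U, F (deg (χ : G → ℂ)) = F 1 + (bigSet C ν).card * F (idx C) +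
      (lowSet C ν).card * F (p - 1) + t * F (deg (ν 1 : G → ℂ)) := by
    intro F
    rw [hU, Finset.sum_union h.disjoint_ord, h.sum_ordSet, deg_oneG,
      Finset.sum_congr rfl fun (χ : IrrCharacter G) hχ => show F (deg (χ : G → ℂ)) = F (idx C) by
        rw [(h.deg_big hχ).1],
      Finset.sum_congr rfl fun (χ : IrrCharacter G) hχ => show F (deg (χ : G → ℂ)) = F (p - 1) by
        rw [← (h.deg_low hχ).1, Nat.add_sub_cancel],
      Finset.sum_congr rfl fun (χ : IrrCharacter G) hχ => show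
          F (deg (χ : G → ℂ)) = F (deg (ν 1 : G → ℂ)) by
        obtain ⟨u, -, rfl⟩ := Finset.mem_image.1 hχ
        rw [deg_exc h.data],
      Finset.sum_const, Finset.sum_const, Finset.sum_const, card_image h.data]
    simp only [nsmul_eq_mul, ht]
  have hp1 : ((p - 1 : ℕ) : ℤ) = (p : ℤ) - 1 := by
    rw [Nat.cast_sub (Fact.out : p.Prime).one_le, Nat.cast_one]
  -- the remaining characters
  have hrest : ∀ χ ∈ Uᶜ, (p : ℤ) * deg (χ : G → ℂ) ≤ (deg (χ : G → ℂ) : ℤ) ^ 2 := by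
    intro χ hχ
    have hnl : ∀ θ, ¬ C.Lies χ θ := by
      intro θ hl
      rw [h.eq_oneV θ] at hl
      rw [Finset.mem_compl, hU, Finset.mem_union, not_or] at hχ
      by_cases hr : χ ∈ Set.range ν
      · obtain ⟨u, rfl⟩ := hr
        exact hχ.2 (Finset.mem_image_of_mem _ (Finset.mem_univ _))
      · exact hχ.1 (mem_ordSet.2 ⟨hl, hr⟩)
    have hd : p ∣ deg (χ : G → ℂ) := C.dvd_deg_of_forall_not_lies hnl P hP
    rw [pow_two]
    exact mul_le_mul_of_nonneg_right (by exact_mod_cast Nat.le_of_dvd (deg_irr_pos χ) hd)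
      (Int.natCast_nonneg _)
  have hsq : ∑ χ ∈ Uᶜ, (deg (χ : G → ℂ) : ℤ) ^ 2 = (t - 1) * (p : ℤ) ^ 2 := by
    have h1 : (∑ χ : IrrCharacter G, (deg (χ : G → ℂ) : ℤ) ^ 2) = (Nat.card G : ℤ) := by
      exact_mod_cast sum_deg_sq_nat (G := G)
    rw [← Finset.sum_add_sum_compl U, hF (fun d => (d : ℤ) ^ 2)] at h1
    simp only [Nat.cast_one, one_pow, hp1] at h1
    have hd : ((deg (ν 1 : G → ℂ) : ℤ)) + eC C = p := by exact_mod_cast h.degree.1
    have hi : (idx C : ℤ) = t * deg (ν 1 : G → ℂ) := by rw [ht]; exact_mod_cast h.idx_eq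
    have hm : t * eC C = (p : ℤ) - 1 := by
      rw [ht, ← hp1]
      exact_mod_cast index_mul_eC C
    have hb := h.big_mul
    have hc : (1 : ℤ) + (bigSet C ν).card + (lowSet C ν).card = eC C := by exact_mod_cast h.card_sets
    have hG : (Nat.card G : ℤ) = idx C * p * eC C := by exact_mod_cast h.card_G
    have hx : (deg (ν 1 : G → ℂ) : ℤ) = p - eC C := by omega
    rw [hx] at h1 hi
    rw [← rest_sq (p := (p : ℤ)) (e := (eC C : ℤ)) (t := t) (b := ((bigSet C ν).card : ℤ))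
      (c := ((lowSet C ν).card : ℤ)) (N := (idx C : ℤ)) (G := (Nat.card G : ℤ)) (by omega)
      (by linear_combination hi - hm) hb hc hG]
    linear_combination h1
  have hle : (p : ℤ) * ∑ χ ∈ Uᶜ, (deg (χ : G → ℂ) : ℤ) ≤ (p : ℤ) * ((t - 1) * p) := by
    rw [Finset.mul_sum]
    refine (Finset.sum_le_sum hrest).trans (le_of_eq ?_)
    rw [hsq]
    ring
  have hle' := le_of_mul_le_mul_left hle (by exact_mod_cast (Fact.out : p.Prime).pos)
  push_cast
  rw [← Finset.sum_add_sum_compl U, hF (fun d => (d : ℤ))]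
  simp only [hp1, Nat.cast_one]
  linarith

/-- The main inequality on the conjugates of an inverting involution. -/
theorem exists_involution_class (he : Even (eC C)) :
    ∃ s : G, s ≠ 1 ∧ s * s = 1 ∧
      p * deg (ν 1 : G → ℂ) ≤ Nat.card {x : G // IsConj s x} := by
  have hpr := (Fact.out : p.Prime)
  have hp5 := h.hyp.five_le
  have hp0 : (p : ℂ) ≠ 0 := Nat.cast_ne_zero.2 hpr.ne_zero
  have : Fact (Nat.Prime 2) := ⟨Nat.prime_two⟩
  obtain ⟨a, ha⟩ := exists_prime_orderOf_dvd_card' (G := C.H) 2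
    (by rw [h.card_H_eq]; exact even_iff_two_dvd.1 he)
  set s : G := (a : G) with hs
  have haa : a * a = 1 := by rw [← pow_two, ← ha, pow_orderOf_eq_one]
  have hss : s * s = 1 := congrArg Subtype.val haa
  have ha1 : a ≠ 1 := fun e => by
    rw [e, orderOf_one] at ha
    omega
  have hs1 : s ≠ 1 := fun e => ha1 (Subtype.ext e)
  have hact : (C.act a : ZMod p) = -1 := by
    have h1 : (C.act a : ZMod p) * (C.act a : ZMod p) = 1 := by
      rw [← Units.val_mul, ← map_mul, haa, map_one, Units.val_one]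
    refine (mul_self_eq_one_iff.1 h1).resolve_left fun e => ha1 ?_
    exact congrArg Subtype.val (h.V_eq ⟨a, Units.ext (by rw [e, Units.val_one])⟩)
  have hinv : ∀ i : ZMod p, s * C.yP i * s⁻¹ = C.yP (-i) := fun i => by
    rw [hs, C.conj_yP, hact, neg_one_mul]
  have hp2 : p ≠ 2 := by omega
  set t : ℕ := (C.E (C.oneV : C.V → ℂ)).index with ht
  -- the values at `s`
  have havg : ∀ χ : IrrCharacter G, ∀ (a : ℕ) (z : ℂ),
      ∑ i : (ZMod p)ˣ, (χ : G → ℂ) (C.yP (i : ZMod p)) = z →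
      (deg (χ : G → ℂ) : ℂ) + z = (p : ℂ) * a →
      ∃ r : ℤ, (χ : G → ℂ) s = (r : ℂ) ∧ -(a : ℤ) ≤ r ∧ r ≤ a := by
    intro χ a z hz hza
    refine C.exists_int_apply_invert hp2 (isCharacter_of_irr χ.2) hss hinv ?_
    rw [Cyc.sum_units_eq, C.yP_zero, irr_apply_one_eq_deg, hz, hza, ← mul_assoc,
      inv_mul_cancel₀ hp0, one_mul]
  have hord : ∀ χ ∈ ordSet C ν, ∑ i : (ZMod p)ˣ, (χ : G → ℂ) (C.yP (i : ZMod p)) =
      ((p : ℂ) - 1) * (C.bI χ C.oneV 1 : ℂ) := by
    intro χ hχ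
    obtain ⟨hl, hr⟩ := mem_ordSet.1 hχ
    rw [Finset.sum_congr rfl fun (i : (ZMod p)ˣ) _ => apply_yP_ord h.modular h.data hr hl i.ne_zero,
      Finset.sum_const, Finset.card_univ, ZMod.card_units, nsmul_eq_mul, Nat.cast_sub hpr.one_le,
      Nat.cast_one]
  have hbig : ∀ χ ∈ bigSet C ν, ∃ r : ℤ, (χ : G → ℂ) s = (r : ℂ) ∧ r ^ 2 ≤ (t : ℤ) ^ 2 := by
    intro χ hχ
    obtain ⟨hd, hb⟩ := h.deg_big hχ
    have h1 := hord χ (Finset.mem_filter.1 hχ).1
    rw [hb, Int.cast_one, mul_one] at h1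
    obtain ⟨r, hr, h2, h3⟩ := havg χ t _ h1 (by
      have e1 : (idx C : ℤ) + ((p : ℤ) - 1) = (p : ℤ) * t := by
        have a1 : (idx C : ℤ) = t * deg (ν 1 : G → ℂ) := by exact_mod_cast h.idx_eq
        have a2 : ((deg (ν 1 : G → ℂ) : ℤ)) + eC C = p := by exact_mod_cast h.degree.1
        have a3 : (t : ℤ) * eC C = ((p - 1 : ℕ) : ℤ) := by exact_mod_cast index_mul_eC C
        rw [Nat.cast_sub hpr.one_le, Nat.cast_one] at a3
        linear_combination a1 + (t : ℤ) * a2 - a3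
      rw [hd]
      exact_mod_cast e1)
    exact ⟨r, hr, sq_le_sq' h2 h3⟩
  have hlow : ∀ χ ∈ lowSet C ν, (χ : G → ℂ) s = 0 := by
    intro χ hχ
    obtain ⟨hd, hb⟩ := h.deg_low hχ
    have h1 := hord χ (Finset.mem_filter.1 hχ).1
    rw [hb, Int.cast_neg, Int.cast_one, mul_neg_one] at h1
    obtain ⟨r, hr, h2, h3⟩ := havg χ 0 _ h1 (by
      have e1 : (deg (χ : G → ℂ) : ℂ) + 1 = (p : ℂ) := by exact_mod_cast hd
      rw [Nat.cast_zero, mul_zero]
      linear_combination e1)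
    rw [hr, show r = 0 by omega, Int.cast_zero]
  obtain ⟨r, hr, hr2⟩ : ∃ r : ℤ, (ν 1 : G → ℂ) s = (r : ℂ) ∧ r ^ 2 ≤ 1 := by
    obtain ⟨r, hr, h2, h3⟩ := havg (ν 1) 1 _ (sum_units_exc h.modular h.data 1) (by
      have e1 : (deg (ν 1 : G → ℂ) : ℂ) + (eC C : ℂ) = (p : ℂ) := by exact_mod_cast h.degree.1
      rw [Nat.cast_one, mul_one, Int.cast_neg, Int.cast_one]
      linear_combination e1)
    exact ⟨r, hr, by simpa using sq_le_sq' h2 h3⟩
  have hsreg : ¬ p ∣ orderOf s := by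
    rw [hs, Subgroup.orderOf_coe, ha]
    intro hd
    have := Nat.le_of_dvd Nat.zero_lt_two hd
    omega
  -- the class sum
  choose! q hq hq2 using hbig
  have hS : ∑ χ : IrrCharacter G, (χ : G → ℂ) s * (χ : G → ℂ) s * conj ((χ : G → ℂ) C.y) /
      (χ : G → ℂ) 1 = 1 + ((∑ χ ∈ bigSet C ν, q χ ^ 2 : ℤ) : ℂ) / (idx C : ℂ) +
        ((r ^ 2 : ℤ) : ℂ) / (deg (ν 1 : G → ℂ) : ℂ) := by
    rw [h.sum_block _ fun χ hl => by
        rw [show (χ : G → ℂ) C.y = 0 from by_contra fun hne => hl (h.lies_of_ne_zero χ hne),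
          map_zero, mul_zero, zero_div],
      h.sum_ordSet, Finset.sum_eq_zero (s := lowSet C ν) fun χ hχ => by
        rw [hlow χ hχ, zero_mul, zero_mul, zero_div], add_zero]
    congr 1
    · congr 1
      · show (1 : ℂ) * 1 * conj (1 : ℂ) / 1 = 1
        rw [map_one, one_mul, one_mul, div_one]
      · push_cast
        rw [Finset.sum_div]
        refine Finset.sum_congr rfl fun χ hχ => ?_
        obtain ⟨hl, hr'⟩ := mem_ordSet.1 (Finset.mem_filter.1 hχ).1
        rw [← C.yP_one, apply_yP_ord h.modular h.data hr' hl one_ne_zero, (h.deg_big hχ).2,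
          Int.cast_one, map_one, mul_one, irr_apply_one_eq_deg, (h.deg_big hχ).1, hq χ hχ, pow_two]
    · rw [Finset.sum_congr rfl (g := fun χ : IrrCharacter G =>
        ((r ^ 2 : ℤ) : ℂ) / (deg (ν 1 : G → ℂ) : ℂ) * conj ((χ : G → ℂ) C.y)) (fun χ hχ => by
          obtain ⟨u, -, rfl⟩ := Finset.mem_image.1 hχ
          rw [apply_exc_regular h.data u hsreg, hr, irr_apply_one_eq_deg, deg_exc h.data]
          push_cast
          ring),
        ← Finset.mul_sum, ← map_sum, ← C.yP_one, sum_exc h.modular h.data one_ne_zero,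
        Int.cast_neg, Int.cast_one, neg_neg, map_one, mul_one]
  have hformula := class_mult_formula s s C.y
  rw [hS] at hformula
  set K : ℕ := Nat.card {x : G // IsConj s x} with hKdef
  set Pn : ℕ := Nat.card {w : G × G // IsConj s w.1 ∧ IsConj s w.2 ∧ w.1 * w.2 = C.y} with hPn
  -- at least `p` factorisations
  have hP : p ≤ Pn := by
    have hc : ∀ j : ZMod p, IsConj s (C.yP j * s) := by
      intro j
      have h2 : (2 : ZMod p) ≠ 0 := fun e => by
        have hd : p ∣ 2 := (ZMod.natCast_eq_zero_iff 2 p).1 (by exact_mod_cast e)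
        exact hp2 ((Nat.prime_dvd_prime_iff_eq hpr Nat.prime_two).1 hd)
      refine isConj_iff.2 ⟨C.yP (j * (2 : ZMod p)⁻¹), ?_⟩
      have h1 := mul_inv_eq_iff_eq_mul.1 (hinv (-(j * (2 : ZMod p)⁻¹)))
      rw [← C.yP_neg, mul_assoc, h1, neg_neg, ← mul_assoc, ← C.yP_add, ← two_mul, mul_comm j,
        ← mul_assoc, mul_inv_cancel₀ h2, one_mul]
    have hprod : ∀ j : ZMod p, C.yP j * s * (C.yP (j - 1) * s) = C.y := by
      intro j
      have h1 : s⁻¹ = s := inv_eq_of_mul_eq_one_left hss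
      have h2 := hinv (j - 1)
      rw [h1] at h2
      calc C.yP j * s * (C.yP (j - 1) * s) = C.yP j * (s * C.yP (j - 1) * s) := by
            simp only [mul_assoc]
        _ = C.y := by rw [h2, ← C.yP_add, neg_sub, add_sub_cancel, C.yP_one]
    refine le_of_eq_of_le (Nat.card_zmod p).symm (Nat.card_le_card_of_injective
      (fun j => (⟨(C.yP j * s, C.yP (j - 1) * s), hc j, hc _, hprod j⟩ :
        {w : G × G // IsConj s w.1 ∧ IsConj s w.2 ∧ w.1 * w.2 = C.y})) fun a b e => ?_)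
    exact C.yP_injective (mul_right_cancel (congrArg Prod.fst (congrArg Subtype.val e)))
  -- the integral form
  set S : ℤ := ∑ χ ∈ bigSet C ν, q χ ^ 2 with hSdef
  have hN0 : (idx C : ℂ) ≠ 0 := Nat.cast_ne_zero.2 (by have := h.lt_idx; omega)
  have hx0 : (deg (ν 1 : G → ℂ) : ℂ) ≠ 0 := Nat.cast_ne_zero.2 (deg_irr_pos _).ne'
  have hG0 : (Nat.card G : ℂ) ≠ 0 := Nat.cast_ne_zero.2 Nat.card_pos.ne'
  have hint : (Pn : ℤ) * Nat.card G * idx C =
      (K : ℤ) * K * ((idx C : ℤ) + S + (t : ℤ) * r ^ 2) := by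
    apply Int.cast_injective (α := ℂ)
    have e1 : (idx C : ℂ) = (t : ℂ) * (deg (ν 1 : G → ℂ) : ℂ) := by exact_mod_cast h.idx_eq
    push_cast at hformula ⊢
    rw [e1] at hformula hN0 ⊢
    have ht0 : (t : ℂ) ≠ 0 := left_ne_zero_of_mul hN0
    rw [hformula]
    field_simp
  have hSle : S ≤ (bigSet C ν).card * (t : ℤ) ^ 2 := by
    rw [hSdef, ← nsmul_eq_mul]
    exact Finset.sum_le_card_nsmul _ _ _ hq2
  have hb := h.big_mul
  have e1 : (idx C : ℤ) = (t : ℤ) * deg (ν 1 : G → ℂ) := by exact_mod_cast h.idx_eq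
  have e2 : ((deg (ν 1 : G → ℂ) : ℤ)) + eC C = p := by exact_mod_cast h.degree.1
  have e3 : (t : ℤ) * eC C = ((p - 1 : ℕ) : ℤ) := by exact_mod_cast index_mul_eC C
  rw [Nat.cast_sub hpr.one_le, Nat.cast_one] at e3
  have e4 : (Nat.card G : ℤ) = idx C * p * eC C := by exact_mod_cast h.card_G
  have hle : (idx C : ℤ) + S + (t : ℤ) * r ^ 2 ≤ (t : ℤ) ^ 2 * eC C := by
    have h1 : (t : ℤ) * r ^ 2 ≤ t := mul_le_of_le_one_right (Int.natCast_nonneg _) hr2
    have h2 : ((bigSet C ν).card : ℤ) * (t : ℤ) ^ 2 = t * ((eC C : ℤ) - 2) := by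
      rw [← hb]
      ring
    have h3 : (t : ℤ) ^ 2 * eC C = t * ((p : ℤ) - 1) := by
      rw [← e3]
      ring
    nlinarith
  have hmain : ((p : ℤ) * deg (ν 1 : G → ℂ)) ^ 2 * ((t : ℤ) ^ 2 * eC C) ≤
      (K : ℤ) ^ 2 * ((t : ℤ) ^ 2 * eC C) := by
    calc ((p : ℤ) * deg (ν 1 : G → ℂ)) ^ 2 * ((t : ℤ) ^ 2 * eC C) =
        (p : ℤ) * Nat.card G * idx C := by rw [e4, e1]; ring
      _ ≤ (Pn : ℤ) * Nat.card G * idx C := by
        refine mul_le_mul_of_nonneg_right (mul_le_mul_of_nonneg_right ?_ ?_) ?_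
        · exact_mod_cast hP
        · exact Int.natCast_nonneg _
        · exact Int.natCast_nonneg _
      _ = _ := hint
      _ ≤ (K : ℤ) * K * ((t : ℤ) ^ 2 * eC C) :=
        mul_le_mul_of_nonneg_left hle (mul_nonneg (Int.natCast_nonneg _) (Int.natCast_nonneg _))
      _ = _ := by ring
  refine ⟨s, hs1, hss, ?_⟩
  have hpos : (0 : ℤ) < (t : ℤ) ^ 2 * eC C := by
    have h0 : 0 < t := Nat.pos_of_ne_zero Subgroup.index_ne_zero_of_finite
    have h0' := h.hyp.two_le_eC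
    exact mul_pos (pow_pos (by exact_mod_cast h0) 2) (by omega)
  have := pow_le_pow_iff_left₀ (n := 2) (show (0 : ℤ) ≤ (p : ℤ) * deg (ν 1 : G → ℂ) by positivity)
    (show (0 : ℤ) ≤ K from Int.natCast_nonneg _) two_ne_zero |>.1
    (le_of_mul_le_mul_right hmain hpos)
  exact_mod_cast this

/-- Only the two families occur. -/
theorem cases : (C.E (C.oneV : C.V → ℂ)).index = 2 ∨
    (3 ≤ (C.E (C.oneV : C.V → ℂ)).index ∧ eC C = 2) := by
  have he2 := h.hyp.two_le_eC
  have hep := h.hyp.two_mul_eC_le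
  have hm := index_mul_eC C
  have hb := h.big_mul
  set t := (C.E (C.oneV : C.V → ℂ)).index with ht
  have ht2 : 2 ≤ t := by
    by_contra hlt
    have : t * eC C ≤ 1 * eC C := Nat.mul_le_mul_right _ (by omega)
    omega
  rcases Nat.eq_or_lt_of_le ht2 with e | ht3
  · exact Or.inl e.symm
  refine Or.inr ⟨ht3, ?_⟩
  by_contra hne
  have hpr := (Fact.out : p.Prime)
  have he3 : 3 ≤ eC C := by omega
  have hev : Even (eC C) := by
    by_contra hodd
    have h1 : Even (t * eC C) := hm ▸ hpr.even_sub_one (by omega)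
    have h2 : Even t := (Nat.even_mul.1 h1).resolve_right hodd
    apply hodd
    obtain ⟨k, hk⟩ := h2
    rw [← Int.even_coe_nat]
    refine ⟨((bigSet C ν).card : ℤ) * k + 1, ?_⟩
    rw [hk] at hb
    push_cast at hb
    linear_combination -hb
  obtain ⟨s, hs1, hss, hK⟩ := h.exists_involution_class hev
  have hcount : Nat.card {x : G // IsConj s x} + 1 ≤ Nat.card {g : G // g * g = 1} := by
    rw [← Finite.card_option]
    refine Nat.card_le_card_of_injective (fun o => (o.elim ⟨1, one_mul 1⟩ fun x => ⟨x.1, by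
      obtain ⟨c, hc⟩ := isConj_iff.1 x.2
      rw [← hc, show c * s * c⁻¹ * (c * s * c⁻¹) = c * (s * s) * c⁻¹ by group, hss]
      group⟩ : {g : G // g * g = 1})) ?_
    rintro (_ | x) (_ | x') e
    · rfl
    · exfalso
      obtain ⟨c, hc⟩ := isConj_iff.1 x'.2
      have e' : (1 : G) = x'.1 := congrArg Subtype.val e
      rw [← e', mul_inv_eq_one, mul_eq_left] at hc
      exact hs1 hc
    · exfalso
      obtain ⟨c, hc⟩ := isConj_iff.1 x.2
      have e' : x.1 = (1 : G) := congrArg Subtype.val e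
      rw [e', mul_inv_eq_one, mul_eq_left] at hc
      exact hs1 hc
    · exact congrArg some (Subtype.ext (congrArg Subtype.val e :))
  have h1 := h.sum_deg_le
  have h2 := card_sq_eq_one_le (G := G)
  have h3 : (((p * deg (ν 1 : G → ℂ) + 1 : ℕ)) : ℤ) ≤
      ((∑ χ : IrrCharacter G, deg (χ : G → ℂ) : ℕ) : ℤ) :=
    Int.ofNat_le.2 (by omega)
  rw [Nat.cast_add, Nat.cast_one, Nat.cast_mul] at h3
  rw [← ht] at h1
  have hm' : (t : ℤ) * eC C = ((p - 1 : ℕ) : ℤ) := by exact_mod_cast hm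
  rw [Nat.cast_sub hpr.one_le, Nat.cast_one] at hm'
  exact count_false (p := (p : ℤ)) (e := (eC C : ℤ)) (t := (t : ℤ))
    (b := ((bigSet C ν).card : ℤ)) (c := ((lowSet C ν).card : ℤ)) (N := (idx C : ℤ))
    (x := (deg (ν 1 : G → ℂ) : ℤ)) (by omega) (by exact_mod_cast h.degree.1)
    (by exact_mod_cast h.idx_eq) hb (by exact_mod_cast h.card_sets) (by omega) (by omega)
    (by linarith)

end Neg

end Cfsg.Lib.Blocks.SmallOrder
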