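import Mathlib
import Cfsg.Agent.Blocks.SmallOrder.Count

/-!
# Perfect groups of order less than `p³`
-/

set_option autoImplicit false
set_option linter.unusedSectionVars false

namespace Cfsg.Lib.Blocks.SmallOrder

open Cfsg.Lib.Chars
open scoped _root_.Classical

universe u

/-- The classification. -/
theorem main {G : Type u} [Group G] [Finite G] (hperf : commutator G = ⊤) (p : ℕ) [Fact p.Prime]
    (hdvd : p ∣ Nat.card G) (hbig : Nat.card G < p ^ 3) (P : Sylow p G)
    (hP : ¬ (P : Subgroup G).Normal) (h2 : ∀ N : Subgroup G, N.Normal → Nat.card N ≠ 2) :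
    (∃ (F : Type) (_ : Field F) (_ : Fintype F), Fintype.card F = p ∧ 3 < p ∧
      Nonempty (G ≃* Matrix.ProjectiveSpecialLinearGroup (Fin 2) F)) ∨
    (∃ (m : ℕ) (F : Type) (_ : Field F) (_ : Fintype F), Fintype.card F = 2 ^ m ∧ p = 2 ^ m + 1 ∧
      3 < p ∧ Nonempty (G ≃* Matrix.SpecialLinearGroup (Fin 2) F)) := by
  have := Fintype.ofFinite G
  have hsq := sq_not_dvd P hP hbig
  obtain ⟨C, hC⟩ := exists_cyc hdvd hsq P
  have hH : Hyp C := ⟨hperf, hbig, ⟨P, hC⟩, hC ▸ hP, h2⟩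
  have hp5 := hH.five_le
  obtain ⟨M, hM⟩ := exists_isPModular (Fact.out : p.Prime)
  obtain ⟨ν, δ, hD⟩ := C.exists_orbitData hM C.oneV
  rcases hD.sign with e | e
  · subst e
    exact Or.inl ⟨ZMod p, inferInstance, inferInstance, ZMod.card p, by omega, iso_of_plus hM hH hD⟩
  · subst e
    have h : Neg M C ν := ⟨hM, hH, hD⟩
    rcases h.cases with ht | ⟨ht, he⟩
    · exact Or.inl ⟨ZMod p, inferInstance, inferInstance, ZMod.card p, by omega,
        h.iso_of_index_two ht⟩
    · obtain ⟨a, F, _, _, hF, hpa, hσ⟩ := h.iso_of_eC_two ht he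
      exact Or.inr ⟨a, F, _, _, hF, hpa, by omega, hσ⟩

end Cfsg.Lib.Blocks.SmallOrder
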